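import Cfsg.Agent.Lib.Co2Three.Point.Count
import Cfsg.Agent.Lib.Co2Three.Tools.Signal

/-!
What is needed of the centraliser of a central element to find the elementary abelian group of order 81 in the
unitary case: unlike the case of the second Conway group only the 3-part of the index of the core and the weak
closure of the central element in the core are used.
-/

set_option autoImplicit false
set_option linter.style.haveILetI false

namespace Cfsg.Agent.U62Three

open Subgroup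
open Co2Three (Core pw pw_zero pw_one pw_add pw_neg pw_mem pw_commute pw_not_mem IsPoint)
open scoped commutatorElement

/-- The properties of a point: the core `Q` of the centraliser of `z`. -/
structure Pt {G : Type*} [Group G] (Q : Subgroup G) (z : G) : Prop where
  core : Core Q z
  le : Q ≤ centralizer {z}
  normal : ∀ g ∈ centralizer ({z} : Set G), ∀ q ∈ Q, g * q * g⁻¹ ∈ Q
  exp : ∀ q ∈ Q, q ^ 3 = 1
  cq : ∀ g : G, Commute g z → (∀ q ∈ Q, Commute g q) → g ∈ Q
  wc : ∀ g : G, g * z * g⁻¹ ∈ Q → g * z * g⁻¹ ∈ zpowers z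
  W_card : ∀ y : G, IsPoint z y → Commute y z → y ∉ Q →
    Nat.card {q : G // q ∈ Q ∧ ⁅y, q⁆ ∈ zpowers z} = 27
  W_img : ∀ y : G, IsPoint z y → Commute y z → y ∉ Q → ∀ w ∈ Q, ⁅y, w⁆ ∈ zpowers z →
    ∃ r ∈ Q, ∃ c ∈ zpowers z, w = ⁅y, r⁆ * c
  line : ∀ u v : G, IsPoint z u → IsPoint z v → Commute u z → Commute v z → Commute u v → u ∉ Q → v ∉ Q →
    ∃ k : ZMod 3, v * pw u k ∈ Q
  fuse : ∀ u v : G, IsPoint z u → IsPoint z v → Commute u z → Commute v z → u ∉ Q → v ∉ Q →
    ∃ c : G, Commute c z ∧ ∃ q ∈ Q, ∃ k : ZMod 3, k ≠ 0 ∧ c * u * c⁻¹ = q * pw v k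

theorem point_inv_left {G : Type*} [Group G] {z x : G} (h : IsPoint z⁻¹ x) : IsPoint z x := by
  obtain ⟨g, hg⟩ := h
  rw [inv_inv] at hg
  exact ⟨g, hg.symm⟩

namespace Pt

variable {G : Type*} [Group G] {Q : Subgroup G} {z : G}

theorem z3 (h : Pt Q z) : z ^ 3 = 1 := h.exp z h.core.mem

theorem z_ne (h : Pt Q z) : z ≠ 1 := fun e => by
  have h2 := h.core.ord
  rw [e, orderOf_one] at h2
  omega

theorem normal' (h : Pt Q z) {g q : G} (hg : Commute g z) (hq : q ∈ Q) : g * q * g⁻¹ ∈ Q :=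
  h.normal g (mem_centralizer_singleton_iff.2 hg.eq) q hq

theorem commute_z (h : Pt Q z) {q : G} (hq : q ∈ Q) : Commute q z :=
  mem_centralizer_singleton_iff.1 (h.le hq)

theorem fix_Z {g c : G} (hg : Commute g z) (hc : c ∈ zpowers z) : Commute g c := by
  obtain ⟨k, rfl⟩ := mem_zpowers_iff.1 hc
  exact hg.zpow_right k

/-- The inverse of the central element has the same properties. -/
theorem inv (h : Pt Q z) : Pt Q z⁻¹ := by
  have hz : zpowers z⁻¹ = zpowers z := zpowers_inv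
  have hc : centralizer ({z⁻¹} : Set G) = centralizer {z} := by
    ext g
    rw [mem_centralizer_singleton_iff, mem_centralizer_singleton_iff]
    exact Commute.inv_right_iff (a := g) (b := z)
  refine ⟨⟨h.core.card, inv_mem h.core.mem, by rw [orderOf_inv, h.core.ord], ?_, ?_⟩, hc ▸ h.le,
    hc ▸ h.normal, h.exp, fun g hg => h.cq g (Commute.inv_right_iff.1 hg), ?_, ?_, ?_, ?_, ?_⟩
  · rw [hz]; exact h.core.centre
  · rw [hz]; exact h.core.comm
  · intro g hg
    have e : g * z⁻¹ * g⁻¹ = (g * z * g⁻¹)⁻¹ := by group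
    rw [e] at hg ⊢
    rw [hz]
    exact inv_mem (h.wc g (inv_inv (g * z * g⁻¹) ▸ inv_mem hg))
  · intro y hp hy hyQ
    rw [hz]
    exact h.W_card y (point_inv_left hp) (Commute.inv_right_iff.1 hy) hyQ
  · intro y hp hy hyQ w hw
    rw [hz]
    exact h.W_img y (point_inv_left hp) (Commute.inv_right_iff.1 hy) hyQ w hw
  · exact fun u v hu hv huz hvz => h.line u v (point_inv_left hu) (point_inv_left hv)
      (Commute.inv_right_iff.1 huz) (Commute.inv_right_iff.1 hvz)
  · intro u v hu hv huz hvz huQ hvQ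
    obtain ⟨c, hc, hr⟩ := h.fuse u v (point_inv_left hu) (point_inv_left hv)
      (Commute.inv_right_iff.1 huz) (Commute.inv_right_iff.1 hvz) huQ hvQ
    exact ⟨c, hc.inv_right, hr⟩

/-- Transport along an automorphism. -/
theorem map (h : Pt Q z) (e : G ≃* G) : Pt (Q.map e.toMonoidHom) (e z) := by
  have hm : ∀ {x : G}, e x ∈ Q.map e.toMonoidHom ↔ x ∈ Q := fun {x} =>
    mem_map_iff_mem (f := e.toMonoidHom) e.injective
  have hzp : ∀ {x : G}, e x ∈ zpowers (e z) ↔ x ∈ zpowers z := fun {x} => by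
    rw [show zpowers (e z) = (zpowers z).map e.toMonoidHom from (MonoidHom.map_zpowers e.toMonoidHom z).symm]
    exact mem_map_iff_mem (f := e.toMonoidHom) e.injective
  have hcom : ∀ {x y : G}, Commute (e x) (e y) ↔ Commute x y := fun {x y} => by
    simp only [Commute, SemiconjBy, ← map_mul, e.injective.eq_iff]
  have hmem : ∀ {x : G}, x ∈ Q.map e.toMonoidHom ↔ ∃ q ∈ Q, e q = x := fun {x} => mem_map
  have hce : centralizer ({e z} : Set G) = (centralizer ({z} : Set G)).map e.toMonoidHom := by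
    ext g
    obtain ⟨g, rfl⟩ := e.surjective g
    refine Iff.trans ?_ (mem_map_iff_mem (f := e.toMonoidHom) (x := g) e.injective).symm
    rw [mem_centralizer_singleton_iff, mem_centralizer_singleton_iff]
    exact hcom
  have hpm : ∀ {x : G}, IsPoint (e z) (e x) → IsPoint z x := fun {x} ⟨g, hg⟩ => by
    obtain ⟨g, rfl⟩ := e.surjective g
    exact ⟨g, hg.imp (fun h => e.injective (by simpa only [map_mul, map_inv] using h))
      fun h => e.injective (by simpa only [map_mul, map_inv] using h)⟩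
  refine ⟨⟨?_, hm.2 h.core.mem, by rw [← h.core.ord]; exact orderOf_injective e.toMonoidHom e.injective z,
    ?_, ?_⟩, ?_, ?_, ?_, ?_, ?_, ?_, ?_, ?_, ?_⟩
  · rw [← h.core.card]
    exact (Nat.card_congr (equivMapOfInjective Q e.toMonoidHom e.injective).toEquiv).symm
  · intro x hx
    obtain ⟨x, hxQ, rfl⟩ := hmem.1 hx
    rw [hzp, ← h.core.centre x hxQ]
    exact ⟨fun hq q hqQ => e.injective (by rw [map_mul, map_mul]; exact hq _ (hm.2 hqQ)), fun hq q' hq' => by
      obtain ⟨q, hqQ, rfl⟩ := hmem.1 hq'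
      rw [← map_mul, ← map_mul, hq q hqQ]⟩
  · intro x hx y hy
    obtain ⟨x, hxQ, rfl⟩ := hmem.1 hx
    obtain ⟨y, hyQ, rfl⟩ := hmem.1 hy
    simpa only [map_mul, map_inv] using hzp.2 (h.core.comm x hxQ y hyQ)
  · rw [hce]; exact map_mono h.le
  · intro g hg q hq
    rw [hce] at hg
    obtain ⟨g, hgc, rfl⟩ := mem_map.1 hg
    obtain ⟨q, hqQ, rfl⟩ := hmem.1 hq
    simpa only [map_mul, map_inv, MulEquiv.coe_toMonoidHom] using hm.2 (h.normal g hgc q hqQ)
  · intro q hq
    obtain ⟨q, hqQ, rfl⟩ := hmem.1 hq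
    rw [← map_pow, h.exp q hqQ, map_one]
  · intro g hg hq
    obtain ⟨g, rfl⟩ := e.surjective g
    exact hm.2 (h.cq g (hcom.1 hg) fun q hqQ => hcom.1 (hq _ (hm.2 hqQ)))
  · intro g hg
    obtain ⟨g, rfl⟩ := e.surjective g
    rw [show e g * e z * (e g)⁻¹ = e (g * z * g⁻¹) by simp only [map_mul, map_inv]] at hg ⊢
    exact hzp.2 (h.wc g (hm.1 hg))
  · intro y hp hy hyQ
    obtain ⟨y, rfl⟩ := e.surjective y
    rw [← h.W_card y (hpm hp) (hcom.1 hy) (fun i => hyQ (hm.2 i))]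
    refine (Nat.card_congr (Equiv.subtypeEquiv e.toEquiv fun q => ?_)).symm
    show q ∈ Q ∧ ⁅y, q⁆ ∈ zpowers z ↔ e q ∈ Q.map e.toMonoidHom ∧ ⁅e y, e q⁆ ∈ zpowers (e z)
    rw [hm, ← map_commutatorElement, hzp]
  · intro y hp hy hyQ w hw hyw
    obtain ⟨y, rfl⟩ := e.surjective y
    obtain ⟨w, hwQ, rfl⟩ := hmem.1 hw
    rw [← map_commutatorElement, hzp] at hyw
    obtain ⟨r, hr, c, hc, hwe⟩ := h.W_img y (hpm hp) (hcom.1 hy) (fun i => hyQ (hm.2 i)) w hwQ hyw
    exact ⟨e r, hm.2 hr, e c, hzp.2 hc, by rw [← map_commutatorElement, ← map_mul, hwe]⟩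
  · intro u v hu hv huz hvz huv huQ hvQ
    obtain ⟨u, rfl⟩ := e.surjective u
    obtain ⟨v, rfl⟩ := e.surjective v
    obtain ⟨k, hk⟩ := h.line u v (hpm hu) (hpm hv) (hcom.1 huz) (hcom.1 hvz) (hcom.1 huv)
      (fun i => huQ (hm.2 i)) (fun i => hvQ (hm.2 i))
    exact ⟨k, by rw [pw, ← map_pow, ← map_mul]; exact hm.2 hk⟩
  · intro u v hu hv huz hvz huQ hvQ
    obtain ⟨u, rfl⟩ := e.surjective u
    obtain ⟨v, rfl⟩ := e.surjective v
    obtain ⟨c, hc, q, hq, k, hk, he⟩ := h.fuse u v (hpm hu) (hpm hv) (hcom.1 huz) (hcom.1 hvz)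
      (fun i => huQ (hm.2 i)) (fun i => hvQ (hm.2 i))
    exact ⟨e c, hcom.2 hc, e q, hm.2 hq, k, hk, by
      rw [pw, ← map_inv, ← map_mul, ← map_mul, ← map_pow, ← map_mul, he]; rfl⟩

/-- Transport along conjugation. -/
theorem conj (h : Pt Q z) (g : G) : Pt (Q.map (MulAut.conj g).toMonoidHom) (g * z * g⁻¹) := h.map (MulAut.conj g)

/-- The elements commuting with `y` up to the centre. -/
def W (h : Pt Q z) (y : G) (_hy : Commute y z) : Subgroup G where
  carrier := {q | q ∈ Q ∧ ⁅y, q⁆ ∈ zpowers z}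
  one_mem' := ⟨one_mem _, by rw [commutatorElement_one_right]; exact one_mem _⟩
  mul_mem' := by
    rintro a b ⟨ha, ha'⟩ ⟨hb, hb'⟩
    refine ⟨mul_mem ha hb, ?_⟩
    have e : ⁅y, a * b⁆ = ⁅y, a⁆ * (a * ⁅y, b⁆ * a⁻¹) := by simp only [commutatorElement_def]; group
    rw [e, (fix_Z (h.commute_z ha) hb').eq, mul_inv_cancel_right]
    exact mul_mem ha' hb'
  inv_mem' := by
    rintro a ⟨ha, ha'⟩
    refine ⟨inv_mem ha, ?_⟩
    have e : ⁅y, a⁻¹⁆ = a⁻¹ * ⁅y, a⁆⁻¹ * a := by simp only [commutatorElement_def]; group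
    rw [e, (fix_Z (h.commute_z ha).inv_left (inv_mem ha')).eq, inv_mul_cancel_right]
    exact inv_mem ha'

theorem card_W (h : Pt Q z) {y : G} (hp : IsPoint z y) (hy : Commute y z) (hyQ : y ∉ Q) :
    Nat.card (h.W y hy) = 27 := h.W_card y hp hy hyQ

theorem W_le (h : Pt Q z) {y : G} (hy : Commute y z) : h.W y hy ≤ Q := fun _ hq => hq.1

theorem inf_centralizer_le_W (h : Pt Q z) {y : G} (hy : Commute y z) :
    Q ⊓ centralizer {y} ≤ h.W y hy := fun q hq => ⟨hq.1, by
  rw [commutatorElement_eq_one_iff_mul_comm.2 (mem_centralizer_singleton_iff.1 hq.2).symm]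
  exact one_mem _⟩

theorem card_inf_mul (E : Subgroup G) : Nat.card ↥(E ⊓ Q) * Q.relIndex E = Nat.card E := by
  have h' := (Q.subgroupOf E).card_mul_index
  rwa [← inf_subgroupOf_right, inf_comm Q E,
    Nat.card_congr (subgroupOfEquivOfLe inf_le_left).toEquiv, inf_subgroupOf_left] at h'

end Pt

end Cfsg.Agent.U62Three
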