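import Cfsg.Agent.Lib.U62Three.Point.Count
import Cfsg.Agent.Lib.Co2Three.Defs

/-!
The anisotropic form on the common centraliser modulo the centre, and the coordinates.
-/

set_option autoImplicit false
set_option linter.style.haveILetI false
set_option linter.unusedSectionVars false

namespace Cfsg.Agent.U62Three.Base

open Subgroup
open Co2Three (Core pw pw_zero pw_one pw_add pw_neg pw_mem pw_commute pw_not_mem IsPoint)
open scoped commutatorElement
open Co2Three (V4 qf e0 e1 e3)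

variable {G : Type*} [Group G] [Finite G] {Q : Subgroup G} {z z' : G}

theorem exists_pw (b : Base Q z z') {x : G} (hx : x ∈ zpowers z) : ∃ k : ZMod 3, pw z k = x := by
  rcases b.pt.zpow_cases hx with e | e | e
  · exact ⟨0, by rw [e, pw_zero]⟩
  · exact ⟨1, by rw [e, pw_one]⟩
  · exact ⟨-1, by rw [e, pw_neg b.pt.z3, pw_one]⟩

theorem pw_inj (b : Base Q z z') {i j : ZMod 3} (h : pw z i = pw z j) : i = j :=
  ZMod.val_injective 3 (pow_injOn_Iio_orderOf (by rw [Set.mem_Iio, b.pt.core.ord]; exact i.val_lt)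
    (by rw [Set.mem_Iio, b.pt.core.ord]; exact j.val_lt) h)

theorem pwz_mem (b : Base Q z z') (i : ZMod 3) : pw z i ∈ b.A := pw_mem b.z_mem_A i

theorem exists_phi (b : Base Q z z') (a : b.A) : ∃ k : ZMod 3, IsPoint z ((a : G) * pw z k * z') := by
  obtain ⟨y, -, k, hk⟩ := b.exists_move a.2
  exact ⟨k, hk ▸ b.point.conj y⟩

/-- The central exponent of the point above an element. -/
noncomputable def phi (b : Base Q z z') (a : b.A) : ZMod 3 := (b.exists_phi a).choose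

theorem phi_spec (b : Base Q z z') (a : b.A) : IsPoint z ((a : G) * pw z (b.phi a) * z') :=
  (b.exists_phi a).choose_spec

theorem phi_eq (b : Base Q z z') {a : b.A} {k : ZMod 3} (h : IsPoint z ((a : G) * pw z k * z')) :
    b.phi a = k := b.unique a.2 (b.phi_spec a) h

theorem phi_one (b : Base Q z z') : b.phi 1 = 0 :=
  b.phi_eq (by rw [OneMemClass.coe_one, pw_zero, one_mul, one_mul]; exact b.point)

theorem phi_mul_z (b : Base Q z z') (a : b.A) (i : ZMod 3) :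
    b.phi (a * ⟨pw z i, b.pwz_mem i⟩) = b.phi a - i := by
  refine b.phi_eq ?_
  show IsPoint z ((a : G) * pw z i * pw z (b.phi a - i) * z')
  rw [mul_assoc (a : G), ← pw_add b.pt.z3, add_sub_cancel]
  exact b.phi_spec a

theorem point_iff (b : Base Q z z') (a : b.A) : IsPoint z ((a : G) * z') ↔ b.phi a = 0 := by
  constructor
  · intro h
    exact b.phi_eq (by rwa [pw_zero, mul_one])
  · intro h
    have := b.phi_spec a
    rwa [h, pw_zero, mul_one] at this

/-- The polar form. -/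
noncomputable def Bf (b : Base Q z z') (a c : b.A) : ZMod 3 := b.phi (a * c) - b.phi a - b.phi c

theorem Bf_comm (b : Base Q z z') (a c : b.A) : b.Bf a c = b.Bf c a := by
  rw [Bf, Bf, show a * c = c * a from Subtype.ext (b.A_comm a a.2 c c.2)]
  ring

theorem exists_mover (b : Base Q z z') (a : b.A) :
    ∃ y : G, ∀ c : b.A, y * c * y⁻¹ = c * pw z (b.Bf a c) := by
  obtain ⟨y, hy, k, hk⟩ := b.exists_move a.2
  have hka : b.phi a = k := b.phi_eq (hk ▸ b.point.conj y)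
  refine ⟨y, fun c => ?_⟩
  obtain ⟨l, hl⟩ := b.exists_pw (b.pt.core.comm y hy c c.2.1)
  have hyc : y * c * y⁻¹ = c * pw z l := by
    rw [b.A_comm c c.2 _ (b.pwz_mem l), hl, inv_mul_cancel_right]
  have hkey : b.phi (a * c) = l + b.phi c + k := by
    refine b.phi_eq ?_
    have h1 := (b.phi_spec c).conj y
    have e : y * ((c : G) * pw z (b.phi c) * z') * y⁻¹ =
        (c : G) * pw z l * pw z (b.phi c) * ((a : G) * pw z k * z') := by
      have hz : y * pw z (b.phi c) * y⁻¹ = pw z (b.phi c) := by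
        rw [(show Commute y (pw z (b.phi c)) from (b.pt.commute_z hy).pow_right _).eq, mul_inv_cancel_right]
      calc y * ((c : G) * pw z (b.phi c) * z') * y⁻¹
          = (y * c * y⁻¹) * (y * pw z (b.phi c) * y⁻¹) * (y * z' * y⁻¹) := by group
        _ = _ := by rw [hyc, hz, hk]
    rw [e] at h1
    have e2 : (((a * c : b.A)) : G) * pw z (l + b.phi c + k) =
        (c : G) * pw z l * pw z (b.phi c) * ((a : G) * pw z k) := by
      rw [pw_add b.pt.z3, pw_add b.pt.z3, Subgroup.coe_mul]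
      have hm : (c : G) * pw z l * pw z (b.phi c) ∈ b.A :=
        mul_mem (mul_mem c.2 (b.pwz_mem _)) (b.pwz_mem _)
      have h3 := b.A_comm _ hm a a.2
      calc (a : G) * c * (pw z l * pw z (b.phi c) * pw z k)
          = (a : G) * ((c : G) * pw z l * pw z (b.phi c)) * pw z k := by group
        _ = _ := by rw [← h3]; group
    rw [e2]
    rwa [← mul_assoc ((c : G) * pw z l * pw z (b.phi c))] at h1
  rw [hyc]
  congr 2
  rw [Bf, hkey, hka]
  ring

theorem Bf_add (b : Base Q z z') (a c d : b.A) : b.Bf a (c * d) = b.Bf a c + b.Bf a d := by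
  obtain ⟨y, hy⟩ := b.exists_mover a
  have h := hy (c * d)
  rw [Subgroup.coe_mul, show y * ((c : G) * d) * y⁻¹ = (y * c * y⁻¹) * (y * d * y⁻¹) by group, hy c, hy d] at h
  have h2 : (c : G) * pw z (b.Bf a c) * ((d : G) * pw z (b.Bf a d)) =
      (c : G) * d * pw z (b.Bf a c + b.Bf a d) := by
    rw [pw_add b.pt.z3]
    calc (c : G) * pw z (b.Bf a c) * ((d : G) * pw z (b.Bf a d))
        = (c : G) * (pw z (b.Bf a c) * d) * pw z (b.Bf a d) := by group
      _ = _ := by rw [b.A_comm _ (b.pwz_mem _) d d.2]; group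
  rw [h2] at h
  exact (b.pw_inj (mul_left_cancel h)).symm

theorem Bf_add_left (b : Base Q z z') (a c d : b.A) : b.Bf (a * c) d = b.Bf a d + b.Bf c d := by
  rw [b.Bf_comm, b.Bf_add, b.Bf_comm d a, b.Bf_comm d c]

theorem Bf_z (b : Base Q z z') (a : b.A) (i : ZMod 3) : b.Bf a ⟨pw z i, b.pwz_mem i⟩ = 0 := by
  have h1 := b.phi_mul_z 1 i
  rw [one_mul, b.phi_one] at h1
  rw [Bf, b.phi_mul_z, h1]
  ring

theorem Bf_z_left (b : Base Q z z') (a : b.A) (i : ZMod 3) : b.Bf ⟨pw z i, b.pwz_mem i⟩ a = 0 := by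
  rw [b.Bf_comm, b.Bf_z]

theorem Bf_one (b : Base Q z z') (a : b.A) : b.Bf a 1 = 0 := by
  have h := b.Bf_add a 1 1
  rw [one_mul] at h
  exact left_eq_add.1 h

theorem Bf_pw (b : Base Q z z') (a c : b.A) (i : ZMod 3) :
    b.Bf a ⟨pw (c : G) i, pw_mem c.2 i⟩ = i * b.Bf a c := by
  have hn : ∀ n : ℕ, b.Bf a (c ^ n) = (n : ZMod 3) * b.Bf a c := by
    intro n
    induction n with
    | zero => rw [pow_zero, b.Bf_one, Nat.cast_zero, zero_mul]
    | succ n ih => rw [pow_succ, b.Bf_add, ih]; push_cast; ring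
  have := hn i.val
  rw [ZMod.natCast_rightInverse] at this
  rwa [show (⟨pw (c : G) i, pw_mem c.2 i⟩ : b.A) = c ^ i.val from Subtype.ext (by simp [pw])]

/-- A point off the tangent hyperplane has no second point on its line to the centre. -/
theorem line (b : Base Q z z') {u : G} (huJ : u ∈ b.J) (huQ : u ∉ Q) (hu : IsPoint z u) {e : ZMod 3}
    (h : IsPoint z (u * pw z e)) : e = 0 := by
  obtain ⟨c, hc, i, rfl⟩ := huJ
  rcases (show ∀ i : ZMod 3, i = 0 ∨ i = 1 ∨ i = -1 by decide) i with rfl | rfl | rfl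
  · exact absurd ((b.mem_Q_iff hc 0).2 rfl) huQ
  · refine b.unique hc (i := e) (j := 0) ?_ (by rwa [pw_zero, mul_one, ← pw_one z'])
    rw [pw_one] at h
    rwa [mul_assoc c (pw z e) z', (show Commute z' (pw z e) from b.com.pow_right _).symm.eq, ← mul_assoc]
  · rw [pw_neg b.z'3, pw_one] at h hu
    have h1 := hu.inv
    have h2 := h.inv
    have e1 : (c * z'⁻¹)⁻¹ = c⁻¹ * z' := by
      rw [mul_inv_rev, inv_inv, ((b.commute_A hc).inv_left).eq]
    rw [e1] at h1
    have e2 : (c * z'⁻¹ * pw z e)⁻¹ = c⁻¹ * pw z (-e) * z' := by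
      rw [mul_inv_rev, e1, pw_neg b.pt.z3, ← mul_assoc,
        b.A_comm _ (inv_mem (b.pwz_mem e)) _ (inv_mem hc)]
    rw [e2] at h2
    exact neg_eq_zero.1 (b.unique (inv_mem hc) (i := -e) (j := 0) h2 (by rwa [pw_zero, mul_one]))

/-- The form is anisotropic. -/
theorem aniso (b : Base Q z z') {a : b.A} (ha : (a : G) ∉ zpowers z) : b.Bf a a ≠ 0 := by
  intro h0
  set a' : b.A := a * ⟨pw z (b.phi a), b.pwz_mem _⟩ with ha'
  have hp1 : b.phi a' = 0 := by rw [ha', b.phi_mul_z, sub_self]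
  have hB : b.Bf a' a' = 0 := by rw [ha', b.Bf_add, b.Bf_z, b.Bf_add_left, h0, b.Bf_z_left]; ring
  have hp2 : b.phi (a' * a') = 0 := by
    rw [Bf, hp1] at hB
    simpa using hB
  have h1 := (b.point_iff a').2 hp1
  have h2 := (b.point_iff (a' * a')).2 hp2
  have hnz : (a' : G) ∉ zpowers z := fun hm => ha ((Subgroup.mul_mem_cancel_right (zpowers z)
    (pw_mem (mem_zpowers z) _)).1 hm)
  obtain ⟨g, hg⟩ := b.point
  obtain ⟨w, hw, hgw⟩ : ∃ w, (w = z ∨ w = z⁻¹) ∧ g * w * g⁻¹ = z' :=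
    hg.elim (fun e => ⟨z, Or.inl rfl, e⟩) fun e => ⟨z⁻¹, Or.inr rfl, e⟩
  obtain ⟨n, hn, hnw⟩ := b.exists_normalising b.z'_mem_J hw hgw
  have hnJ : ∀ x ∈ b.J, n⁻¹ * x * n ∈ b.J := fun x hx => by
    have := (mem_normalizer_iff.1 (inv_mem (b.mem_normalizer_of hn)) x).1 hx
    rwa [inv_inv] at this
  set u := n⁻¹ * ((a' : G) * z') * n with hu
  have huJ : u ∈ b.J := hnJ _ (mul_mem (b.A_le_J a'.2) b.z'_mem_J)
  have hup : IsPoint z u := by
    have := h1.conj n⁻¹
    rwa [inv_inv] at this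
  have hwz : w ∈ zpowers z := hw.elim (fun e => e ▸ mem_zpowers z) fun e => e ▸ inv_mem (mem_zpowers z)
  have huQ : u ∉ Q := by
    intro hQ
    -- then the sum lies on the line of the second point
    have hz : u ∈ zpowers z := by
      rcases b.point_Q hup hQ with e | e
      · exact e ▸ mem_zpowers z
      · exact e ▸ inv_mem (mem_zpowers z)
    have hzz : zpowers w = zpowers z := hw.elim (fun e => by rw [e]) fun e => by rw [e, zpowers_inv]
    rw [← hzz] at hz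
    obtain ⟨i, hi⟩ := mem_zpowers_iff.1 hz
    have e1 : (a' : G) * z' = z' ^ i := by
      calc (a' : G) * z' = n * u * n⁻¹ := by rw [hu]; group
        _ = (n * w * n⁻¹) ^ i := by rw [conj_zpow, hi]
        _ = z' ^ i := by rw [hnw]
    have e2 : (a' : G) = z' ^ (i - 1) := by
      rw [zpow_sub_one, ← e1, mul_inv_cancel_right]
    obtain ⟨Q', h'⟩ := IsPoint.exists_pt b.pt b.point
    exact hnz ((Pt.zpowers_inf_eq_one h' b.not_mem (e2.symm ▸ zpow_mem (mem_zpowers z') _) a'.2.1) ▸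
      one_mem _)
  -- the third point
  have h3 : IsPoint z (u * u * w⁻¹) := by
    have e : u * u * w⁻¹ = n⁻¹ * (((a' * a' : b.A) : G) * z') * n⁻¹⁻¹ := by
      have hw' : w⁻¹ = n⁻¹ * z'⁻¹ * n := by rw [← hnw]; group
      rw [hw', hu, Subgroup.coe_mul]
      have hc : z' * (a' : G) = (a' : G) * z' := (b.commute_A a'.2).symm.eq
      calc n⁻¹ * ((a' : G) * z') * n * (n⁻¹ * ((a' : G) * z') * n) * (n⁻¹ * z'⁻¹ * n)
          = n⁻¹ * ((a' : G) * (z' * a')) * n := by group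
        _ = n⁻¹ * ((a' : G) * a' * z') * n⁻¹⁻¹ := by rw [hc]; group
    rw [e]
    exact h2.conj n⁻¹
  have huu : u * u = u⁻¹ := eq_inv_of_mul_eq_one_left (by
    rw [← pow_two, ← pow_succ]
    exact b.J_exp u huJ)
  rw [huu] at h3
  have h4 : IsPoint z (u * w) := by
    have h := h3.inv
    rw [mul_inv_rev, inv_inv, inv_inv] at h
    rwa [b.J_comm u huJ w (b.A_le_J (zpowers_le.2 b.z_mem_A hwz))]
  obtain ⟨e, he⟩ := b.exists_pw hwz
  rw [← he] at h4
  have he0 := b.line huJ huQ hup h4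
  rw [he0, pw_zero] at he
  rcases hw with rfl | rfl
  · exact b.pt.z_ne he.symm
  · exact b.pt.z_ne (inv_eq_one.1 he.symm)

/-- The coordinates, the first axis of the plane at a given element. -/
theorem exists_coord_at (b : Base Q z z') (a : b.A) (ha : (a : G) ∉ zpowers z) : ∃ el : V4 → G,
    (∀ u v, el (u + v) = el u * el v) ∧ Function.Injective el ∧
    (∀ x, x ∈ b.J ↔ ∃ v, el v = x) ∧ (el e0 = z ∨ el e0 = z⁻¹) ∧ (∀ v, el v ∈ Q ↔ v 3 = 0) ∧
    (∀ v, v ≠ 0 → (IsPoint z (el v) ↔ qf v = 0)) ∧ el e3 = z' ∧ (a : G)⁻¹ * el e1 ∈ zpowers z := by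
  classical
  have hA3 : ∀ {x : G}, x ∈ b.A → x ^ 3 = 1 := fun hx => b.pt.exp _ hx.1
  set β := b.Bf a a with hβ
  have hβ0 : β ≠ 0 := b.aniso ha
  have hββ : β * β = 1 := (by decide : ∀ x : ZMod 3, x ≠ 0 → x * x = 1) β hβ0
  have shift : ∀ a : b.A, (a : G) ∉ zpowers z → ∃ a₁ : b.A, (a₁ : G) ∉ zpowers z ∧
      b.phi a₁ = -(b.Bf a a) ∧ (∀ c, b.Bf a₁ c = b.Bf a c) ∧ (a : G)⁻¹ * a₁ ∈ zpowers z := fun a ha => by
    refine ⟨a * ⟨pw z (b.phi a + b.Bf a a), b.pwz_mem _⟩, fun hm => ha ((Subgroup.mul_mem_cancel_right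
      (zpowers z) (pw_mem (mem_zpowers z) _)).1 hm), by rw [b.phi_mul_z]; ring, fun c => ?_, ?_⟩
    · rw [b.Bf_add_left, b.Bf_z_left, add_zero]
    · rw [Subgroup.coe_mul, inv_mul_cancel_left]
      exact pw_mem (mem_zpowers z) _
  obtain ⟨a₁, ha₁, hφ₁, hB₁, hza₁⟩ := shift a ha
  have hB11 : b.Bf a₁ a₁ = β := by rw [hB₁, b.Bf_comm, hB₁]
  -- an orthogonal element
  obtain ⟨c, hc⟩ : ∃ c : b.A, ∀ i j : ZMod 3, (c : G) ≠ pw z i * pw (a₁ : G) j := by
    by_contra hno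
    push Not at hno
    choose i j hij using hno
    have h := Nat.card_le_card_of_injective (fun c : b.A => (i c, j c)) fun c d h =>
      Subtype.ext (by
        simp only [Prod.mk.injEq] at h
        rw [hij c, hij d, h.1, h.2])
    rw [b.card_A] at h
    simp at h
  set c₁ : b.A := c * ⟨pw (a₁ : G) (-(β * b.Bf a₁ c)), pw_mem a₁.2 _⟩ with hc₁
  have hc₁B : b.Bf a₁ c₁ = 0 := by
    rw [hc₁, b.Bf_add, b.Bf_pw, hB11]
    linear_combination -(b.Bf a₁ c) * hββ
  have hc₁z : (c₁ : G) ∉ zpowers z := by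
    intro hm
    obtain ⟨i, hi⟩ := b.exists_pw hm
    refine hc i (β * b.Bf a₁ c) ?_
    rw [hi, hc₁, Subgroup.coe_mul, Subgroup.coe_mk, mul_assoc, ← pw_add (hA3 a₁.2), neg_add_cancel,
      pw_zero, mul_one]
  obtain ⟨a₂, ha₂, hφ₂, hB₂, -⟩ := shift c₁ hc₁z
  have hB12 : b.Bf a₁ a₂ = 0 := by rw [b.Bf_comm, hB₂, b.Bf_comm, hc₁B]
  have hB22 : b.Bf a₂ a₂ = b.Bf c₁ c₁ := by rw [hB₂, b.Bf_comm, hB₂]
  set γ := b.Bf c₁ c₁
  have hγ0 : γ ≠ 0 := b.aniso hc₁z
  -- the elements of the plane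
  let P : ZMod 3 → ZMod 3 → ZMod 3 → b.A := fun i j k =>
    ⟨pw z i, b.pwz_mem i⟩ * ⟨pw (a₁ : G) j, pw_mem a₁.2 j⟩ * ⟨pw (a₂ : G) k, pw_mem a₂.2 k⟩
  have hP1 : ∀ i j k, b.Bf a₁ (P i j k) = j * β := fun i j k => by
    simp only [P, b.Bf_add, b.Bf_z, b.Bf_pw, hB11, hB12]; ring
  have hP2 : ∀ i j k, b.Bf a₂ (P i j k) = k * γ := fun i j k => by
    simp only [P, b.Bf_add, b.Bf_z, b.Bf_pw, hB22, b.Bf_comm a₂ a₁, hB12]; ring
  have hPinj : ∀ i j k, (P i j k : G) = 1 → i = 0 ∧ j = 0 ∧ k = 0 := by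
    intro i j k h
    have h1 : P i j k = 1 := Subtype.ext h
    have hj := hP1 i j k
    have hk := hP2 i j k
    rw [h1, b.Bf_one] at hj hk
    have hj0 : j = 0 := (show ∀ x y : ZMod 3, 0 = x * y → y ≠ 0 → x = 0 by decide) _ _ hj hβ0
    have hk0 : k = 0 := (show ∀ x y : ZMod 3, 0 = x * y → y ≠ 0 → x = 0 by decide) _ _ hk hγ0
    refine ⟨b.pw_inj ?_, hj0, hk0⟩
    have : pw z i * pw (a₁ : G) j * pw (a₂ : G) k = 1 := h
    rwa [hj0, hk0, pw_zero, pw_zero, mul_one, mul_one, ← pw_zero z] at this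
  have hγ : γ = β := by
    rcases (show ∀ x y : ZMod 3, x ≠ 0 → y ≠ 0 → x = y ∨ x + y = 0 by decide) γ β hγ0 hβ0 with e | e
    · exact e
    · exfalso
      refine b.aniso (a := a₁ * a₂) (fun hm => ?_) ?_
      · obtain ⟨i, hi⟩ := b.exists_pw hm
        obtain ⟨-, h1, -⟩ := hPinj (-i) 1 1 (by
          show pw z (-i) * pw (a₁ : G) 1 * pw (a₂ : G) 1 = 1
          rw [pw_one, pw_one, pw_neg b.pt.z3, mul_assoc, hi]
          exact inv_mul_cancel _)
        exact absurd h1 (by decide)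
      · rw [b.Bf_add, b.Bf_add_left, b.Bf_add_left, hB11, hB12, b.Bf_comm a₂ a₁, hB12, hB22, zero_add, add_zero]
        exact (add_comm β γ).trans e
  -- the quadratic part
  have hsq : ∀ (a : b.A) (j : ZMod 3), b.phi a = -(b.Bf a a) →
      b.phi ⟨pw (a : G) j, pw_mem a.2 j⟩ = -(b.Bf a a) * (j * j) := by
    intro a j h
    have h2 : b.phi (a * a) = -(b.Bf a a) := by
      have e : b.Bf a a = b.phi (a * a) - b.phi a - b.phi a := rfl
      rw [h] at e
      linear_combination -e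
    rcases (show ∀ j : ZMod 3, j = 0 ∨ j = 1 ∨ j = 1 + 1 by decide) j with rfl | rfl | rfl
    · rw [show (⟨pw (a : G) 0, pw_mem a.2 0⟩ : b.A) = 1 from Subtype.ext (pw_zero _), b.phi_one]; ring
    · rw [show (⟨pw (a : G) 1, pw_mem a.2 1⟩ : b.A) = a from Subtype.ext (pw_one _), h]; ring
    · rw [show (⟨pw (a : G) (1 + 1), pw_mem a.2 _⟩ : b.A) = a * a from
        Subtype.ext (by
          show pw (a : G) (1 + 1) = (a : G) * a
          rw [pw_add (hA3 a.2), pw_one]), h2]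
      rw [show ((1 : ZMod 3) + 1) * (1 + 1) = 1 from rfl, mul_one]
  have hφ₁' : b.phi a₁ = -(b.Bf a₁ a₁) := by rw [hB11, hφ₁]
  have hφ₂' : b.phi a₂ = -(b.Bf a₂ a₂) := by rw [hB22, hφ₂]
  have hphiP : ∀ i j k, b.phi (P i j k) = -i - β * (j * j + k * k) := by
    intro i j k
    have e : P i j k = (⟨pw (a₁ : G) j, pw_mem a₁.2 j⟩ * ⟨pw (a₂ : G) k, pw_mem a₂.2 k⟩) *
        ⟨pw z i, b.pwz_mem i⟩ := Subtype.ext (by
      show pw z i * pw (a₁ : G) j * pw (a₂ : G) k = pw (a₁ : G) j * pw (a₂ : G) k * pw z i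
      rw [b.A_comm _ (mul_mem (pw_mem a₁.2 j) (pw_mem a₂.2 k)) _ (b.pwz_mem i)]
      group)
    have hB : b.Bf ⟨pw (a₁ : G) j, pw_mem a₁.2 j⟩ ⟨pw (a₂ : G) k, pw_mem a₂.2 k⟩ = 0 := by
      rw [b.Bf_pw, b.Bf_comm, b.Bf_pw, b.Bf_comm a₂ a₁, hB12]; ring
    rw [Bf, hsq a₁ j hφ₁', hsq a₂ k hφ₂', hB11, hB22, hγ] at hB
    rw [e, b.phi_mul_z]
    linear_combination hB
  let el : V4 → G := fun v => (P (-β * v 0) (v 1) (v 2) : G) * pw z' (v 3)
  have hadd : ∀ u v, el (u + v) = el u * el v := by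
    intro u v
    have hP : ∀ i j k i' j' k', P (i + i') (j + j') (k + k') = P i j k * P i' j' k' := by
      intro i j k i' j' k'
      letI : CommGroup b.A := { mul_comm := fun x y => Subtype.ext (b.A_comm x x.2 y y.2) }
      simp only [P]
      rw [show (⟨pw z (i + i'), b.pwz_mem _⟩ : b.A) = ⟨pw z i, b.pwz_mem _⟩ * ⟨pw z i', b.pwz_mem _⟩ from
          Subtype.ext (pw_add b.pt.z3 _ _),
        show (⟨pw (a₁ : G) (j + j'), pw_mem a₁.2 _⟩ : b.A) =
            ⟨pw (a₁ : G) j, pw_mem a₁.2 _⟩ * ⟨pw (a₁ : G) j', pw_mem a₁.2 _⟩ from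
          Subtype.ext (pw_add (hA3 a₁.2) _ _),
        show (⟨pw (a₂ : G) (k + k'), pw_mem a₂.2 _⟩ : b.A) =
            ⟨pw (a₂ : G) k, pw_mem a₂.2 _⟩ * ⟨pw (a₂ : G) k', pw_mem a₂.2 _⟩ from
          Subtype.ext (pw_add (hA3 a₂.2) _ _)]
      simp only [mul_assoc, mul_left_comm, mul_comm]
    show (P (-β * (u + v) 0) ((u + v) 1) ((u + v) 2) : G) * pw z' ((u + v) 3) = _
    rw [Pi.add_apply, Pi.add_apply, Pi.add_apply, Pi.add_apply, mul_add, hP, Subgroup.coe_mul,
      pw_add b.z'3]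
    set X := P (-β * v 0) (v 1) (v 2)
    have hc : Commute (X : G) (pw z' (u 3)) := (b.commute_A X.2).pow_right _
    calc _ = (P (-β * u 0) (u 1) (u 2) : G) * ((X : G) * pw z' (u 3)) * pw z' (v 3) := by group
      _ = el u * el v := by rw [hc.eq]; simp only [el, X]; group
  have hQ : ∀ v, el v ∈ Q ↔ v 3 = 0 := fun v => b.mem_Q_iff (P (-β * v 0) (v 1) (v 2)).2 (v 3)
  have hinj : Function.Injective el := by
    intro u v h
    have h0 : el (u - v) = 1 := by
      have e : el (u - v) * el v = el u := by rw [← hadd, sub_add_cancel]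
      exact mul_eq_right.1 (e.trans h)
    have h3 : (u - v) 3 = 0 := (hQ _).1 (h0.symm ▸ one_mem _)
    have h1 := h0
    simp only [el] at h1
    rw [h3, pw_zero, mul_one] at h1
    obtain ⟨hi, hj, hk⟩ := hPinj _ _ _ h1
    have hi0 : (u - v) 0 = 0 :=
      (show ∀ x y : ZMod 3, -y * x = 0 → y ≠ 0 → x = 0 by decide) _ _ hi hβ0
    refine sub_eq_zero.1 (funext fun l => ?_)
    fin_cases l
    · exact hi0
    · exact hj
    · exact hk
    · exact h3
  have hmem : ∀ v, el v ∈ b.J := fun v => ⟨_, (P _ _ _).2, v 3, rfl⟩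
  refine ⟨el, hadd, hinj, fun x => ⟨fun hx => ?_, fun ⟨v, e⟩ => e ▸ hmem v⟩, ?_, hQ, fun v hv => ?_, ?_, ?_⟩
  · have hb : Function.Bijective fun v => (⟨el v, hmem v⟩ : b.J) :=
      (Nat.bijective_iff_injective_and_card _).2 ⟨fun p q e => hinj (congrArg Subtype.val e), by
        rw [b.card_J]; simp⟩
    obtain ⟨v, hv⟩ := hb.2 ⟨x, hx⟩
    exact ⟨v, congrArg Subtype.val hv⟩
  · have e : el e0 = pw z (-β) := by
      simp only [el, P, e0, Matrix.cons_val, mul_one, pw_zero, Subgroup.coe_mul]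
    rcases (show ∀ x : ZMod 3, x ≠ 0 → -x = 1 ∨ -x = -1 by decide) β hβ0 with h | h <;> rw [e, h]
    · exact Or.inl (pw_one z)
    · exact Or.inr (by rw [pw_neg b.pt.z3, pw_one])
  · have key : ∀ v : V4, v 3 = 1 → (IsPoint z (el v) ↔ qf v = 0) := fun v h => by
      show IsPoint z ((P (-β * v 0) (v 1) (v 2) : G) * pw z' (v 3)) ↔ _
      rw [h, pw_one, b.point_iff, hphiP, qf, h]
      rw [show -(-β * v 0) - β * (v 1 * v 1 + v 2 * v 2) = β * (v 0 * 1 - v 1 * v 1 - v 2 * v 2) by ring]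
      exact ⟨fun hh => (show ∀ x y : ZMod 3, x * y = 0 → x ≠ 0 → y = 0 by decide) _ _ hh hβ0,
        fun hh => by rw [hh, mul_zero]⟩
    rcases (show ∀ x : ZMod 3, x = 0 ∨ x = 1 ∨ x = -1 by decide) (v 3) with h | h | h
    · have hq : qf v = 0 ↔ v 1 = 0 ∧ v 2 = 0 := by
        rw [qf, h, mul_zero]
        exact (show ∀ x y : ZMod 3, 0 - x * x - y * y = 0 ↔ x = 0 ∧ y = 0 by decide) _ _
      rw [hq]
      constructor
      · intro hp
        have hz : el v ∈ zpowers z := by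
          rcases b.point_Q hp ((hQ v).2 h) with e | e
          · exact e ▸ mem_zpowers z
          · exact e ▸ inv_mem (mem_zpowers z)
        obtain ⟨i, hi⟩ := b.exists_pw hz
        have h1 : el v = (P i 0 0 : G) := by
          rw [← hi]
          simp only [P, Subgroup.coe_mul, pw_zero, mul_one]
        simp only [el] at h1
        rw [h, pw_zero, mul_one] at h1
        have h2 := congrArg (b.Bf a₁) (Subtype.ext h1)
        have h3 := congrArg (b.Bf a₂) (Subtype.ext h1)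
        rw [hP1, hP1, zero_mul] at h2
        rw [hP2, hP2, zero_mul] at h3
        exact ⟨(show ∀ x y : ZMod 3, x * y = 0 → y ≠ 0 → x = 0 by decide) _ _ h2 hβ0,
          (show ∀ x y : ZMod 3, x * y = 0 → y ≠ 0 → x = 0 by decide) _ _ h3 hγ0⟩
      · rintro ⟨h1, h2⟩
        have e : el v = pw z (-β * v 0) := by
          simp only [el, P, h, h1, h2, pw_zero, mul_one, Subgroup.coe_mul]
        have hne : v 0 ≠ 0 := fun h0 => hv (funext fun l => by fin_cases l <;> assumption)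
        rcases (show ∀ x y : ZMod 3, x ≠ 0 → y ≠ 0 → -x * y = 1 ∨ -x * y = -1 by decide) β (v 0) hβ0 hne
          with h' | h' <;> rw [e, h']
        · rw [pw_one]; exact IsPoint.refl z
        · rw [pw_neg b.pt.z3, pw_one]; exact (IsPoint.refl z).inv
    · exact key v h
    · have hneg : el (-v) = (el v)⁻¹ := eq_inv_of_mul_eq_one_left (by
        rw [← hadd, neg_add_cancel]
        exact mul_eq_left.1 ((hadd 0 0).symm.trans (by rw [add_zero])))
      have h1 := key (-v) (by rw [Pi.neg_apply, h, neg_neg])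
      rw [hneg, show qf (-v) = qf v by simp [qf]] at h1
      exact ⟨fun hp => h1.1 hp.inv, fun hq => inv_inv (el v) ▸ (h1.2 hq).inv⟩
  · simp only [el, P, e3, Matrix.cons_val, mul_zero, pw_zero, pw_one, Subgroup.coe_mul, one_mul]
  · simp only [el, P, e1, Matrix.cons_val, mul_zero, pw_zero, pw_one, Subgroup.coe_mul, one_mul, mul_one]
    exact hza₁

theorem exists_outside (b : Base Q z z') : ∃ a : b.A, (a : G) ∉ zpowers z := by
  by_contra hno
  push Not at hno
  have := card_le_of_le (fun x hx => hno ⟨x, hx⟩ : b.A ≤ zpowers z)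
  rw [b.card_A, b.pt.core.card_zpowers] at this
  omega

/-- The coordinates. -/
theorem exists_coord (b : Base Q z z') : ∃ el : V4 → G,
    (∀ u v, el (u + v) = el u * el v) ∧ Function.Injective el ∧
    (∀ x, x ∈ b.J ↔ ∃ v, el v = x) ∧ (el e0 = z ∨ el e0 = z⁻¹) ∧ (∀ v, el v ∈ Q ↔ v 3 = 0) ∧
    ∀ v, v ≠ 0 → (IsPoint z (el v) ↔ qf v = 0) := by
  obtain ⟨a, ha⟩ := b.exists_outside
  obtain ⟨el, h1, h2, h3, h4, h5, h6, -, -⟩ := b.exists_coord_at a ha
  exact ⟨el, h1, h2, h3, h4, h5, h6⟩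

end Cfsg.Agent.U62Three.Base
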