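import Cfsg.Agent.Lib.Co2Three.Tools.Realise

/-!
The translations fixing one of two opposite singular points of the minus type space of dimension four, and the
group they generate: it is transitive on the singular vectors.
-/

set_option autoImplicit false
set_option maxRecDepth 20000

namespace Cfsg.Agent.U62Three

open Matrix
open Co2Three (V4 qf bf e0 e1 e2 e3 IsSim isSim_mult)

/-- The translation at the central point. -/
def trM (a b : ZMod 3) : Matrix (Fin 4) (Fin 4) (ZMod 3) :=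
  !![1, -a, -b, a * a + b * b; 0, 1, 0, a; 0, 0, 1, b; 0, 0, 0, 1]

/-- The translation at the opposite point. -/
def tr3M (a b : ZMod 3) : Matrix (Fin 4) (Fin 4) (ZMod 3) :=
  !![1, 0, 0, 0; a, 1, 0, 0; b, 0, 1, 0; a * a + b * b, -a, -b, 1]

/-- A member of the group generated by the translations at the two points. -/
def IsRot (M : Matrix (Fin 4) (Fin 4) (ZMod 3)) : Prop :=
  M ∈ Submonoid.closure (Set.range (fun p : ZMod 3 × ZMod 3 => trM p.1 p.2) ∪
    Set.range (fun p : ZMod 3 × ZMod 3 => tr3M p.1 p.2))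

theorem isRot_tr (a b : ZMod 3) : IsRot (trM a b) := Submonoid.subset_closure (Or.inl ⟨(a, b), rfl⟩)

theorem isRot_tr3 (a b : ZMod 3) : IsRot (tr3M a b) := Submonoid.subset_closure (Or.inr ⟨(a, b), rfl⟩)

theorem IsRot.mul {A B : Matrix (Fin 4) (Fin 4) (ZMod 3)} (hA : IsRot A) (hB : IsRot B) : IsRot (A * B) :=
  mul_mem hA hB

theorem isRot_one : IsRot 1 := one_mem _

theorem trM_mulVec : ∀ a b : ZMod 3, ∀ v : V4, qf ((trM a b).mulVec v) = qf v ∧ qf ((tr3M a b).mulVec v) = qf v := by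
  decide +kernel

/-- The members of the group are isometries. -/
theorem IsRot.qf_eq {M : Matrix (Fin 4) (Fin 4) (ZMod 3)} (h : IsRot M) : ∀ v, qf (M.mulVec v) = qf v := by
  induction h using Submonoid.closure_induction with
  | mem M hM =>
    rcases hM with ⟨p, rfl⟩ | ⟨p, rfl⟩
    · exact fun v => (trM_mulVec p.1 p.2 v).1
    · exact fun v => (trM_mulVec p.1 p.2 v).2
  | one => exact fun v => by rw [Matrix.one_mulVec]
  | mul A B _ _ hA hB => exact fun v => by rw [← Matrix.mulVec_mulVec, hA, hB]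

theorem IsRot.isSim {M : Matrix (Fin 4) (Fin 4) (ZMod 3)} (h : IsRot M) : IsSim M := Or.inl h.qf_eq

theorem trans_check : ∀ v : V4, v ≠ 0 → qf v = 0 → ∃ a b c d g h : ZMod 3,
    (tr3M g h).mulVec ((trM a b).mulVec ((tr3M c d).mulVec e0)) = v := by decide +kernel

theorem back_check : ∀ v : V4, v ≠ 0 → qf v = 0 → ∃ a b c d g h : ZMod 3,
    (tr3M g h).mulVec ((trM a b).mulVec ((tr3M c d).mulVec v)) = e0 := by decide +kernel

/-- The group is transitive on the singular vectors. -/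
theorem exists_rot {v : V4} (hv : v ≠ 0) (hq : qf v = 0) : ∃ M, IsRot M ∧ M.mulVec e0 = v := by
  obtain ⟨a, b, c, d, g, h, e⟩ := trans_check v hv hq
  exact ⟨_, ((isRot_tr3 g h).mul (isRot_tr a b)).mul (isRot_tr3 c d), by
    rw [← Matrix.mulVec_mulVec, ← Matrix.mulVec_mulVec, e]⟩

theorem exists_rot_to {v : V4} (hv : v ≠ 0) (hq : qf v = 0) : ∃ M, IsRot M ∧ M.mulVec v = e0 := by
  obtain ⟨a, b, c, d, g, h, e⟩ := back_check v hv hq
  exact ⟨_, ((isRot_tr3 g h).mul (isRot_tr a b)).mul (isRot_tr3 c d), by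
    rw [← Matrix.mulVec_mulVec, ← Matrix.mulVec_mulVec, e]⟩

theorem single_eq : (Pi.single 0 1 : V4) = e0 ∧ (Pi.single 1 1 : V4) = e1 ∧ (Pi.single 2 1 : V4) = e2 ∧
    (Pi.single 3 1 : V4) = e3 := by decide

theorem ext_basis {A B : Matrix (Fin 4) (Fin 4) (ZMod 3)} (h0 : A.mulVec e0 = B.mulVec e0)
    (h1 : A.mulVec e1 = B.mulVec e1) (h2 : A.mulVec e2 = B.mulVec e2) (h3 : A.mulVec e3 = B.mulVec e3) : A = B := by
  refine Matrix.ext_of_mulVec_single fun j => ?_
  fin_cases j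
  · exact single_eq.1 ▸ h0
  · exact single_eq.2.1 ▸ h1
  · exact single_eq.2.2.1 ▸ h2
  · exact single_eq.2.2.2 ▸ h3

theorem tr_facts : ∀ a b k : ZMod 3,
    ((bf e0 ![a * a + b * b, a, b, 1] = 1 ∧ bf e0 e3 = 1 ∧ bf e1 e3 = 0 ∧ bf e2 e3 = 0)) ∧
    (bf (k • e0 + e1) ![a * a + b * b, a, b, 1] = 0 → k = -a) ∧
    (bf (k • e0 + e2) ![a * a + b * b, a, b, 1] = 0 → k = -b) ∧
    (trM a b).mulVec e0 = e0 ∧ (trM a b).mulVec e1 = -a • e0 + e1 ∧ (trM a b).mulVec e2 = -b • e0 + e2 ∧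
    (trM a b).mulVec e3 = ![a * a + b * b, a, b, 1] := by decide +kernel

theorem tr3_facts : ∀ a b k : ZMod 3,
    (qf (k • e3 + e1) = -1 ∧ qf e1 = -1) ∧
    (bf (k • e3 + e1) ![1, a, b, a * a + b * b] = 0 → k = -a) ∧
    (bf (k • e3 + e2) ![1, a, b, a * a + b * b] = 0 → k = -b) ∧
    (tr3M a b).mulVec e3 = e3 ∧ (tr3M a b).mulVec e1 = -a • e3 + e1 ∧ (tr3M a b).mulVec e2 = -b • e3 + e2 ∧
    (tr3M a b).mulVec e0 = ![1, a, b, a * a + b * b] := by decide +kernel

theorem sing_facts : ∀ w : V4, qf w = 0 → bf w e3 = 1 → w = ![1, w 1, w 2, w 1 * w 1 + w 2 * w 2] := by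
  decide +kernel

theorem bf_e13 : bf e1 e0 = 0 ∧ bf e2 e0 = 0 ∧ bf e0 e3 = 1 := by decide

/-- A similitude fixing the central point and acting trivially on its orthogonal space modulo it. -/
theorem eq_trM {M : Matrix (Fin 4) (Fin 4) (ZMod 3)} (hM : IsSim M) (h0 : M.mulVec e0 = e0)
    {j k : ZMod 3} (h1 : M.mulVec e1 = j • e0 + e1) (h2 : M.mulVec e2 = k • e0 + e2) {a b : ZMod 3}
    (h3 : M.mulVec e3 = ![a * a + b * b, a, b, 1]) : M = trM a b := by
  obtain ⟨s, -, -, hb⟩ := isSim_mult hM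
  obtain ⟨⟨f1, f2, f3, f4⟩, -, -, t0, t1, t2, t3⟩ := tr_facts a b 0
  have hs : s = 1 := by
    have h := hb e0 e3
    rw [h0, h3, f1, f2, mul_one] at h
    exact h.symm
  have b1 := hb e1 e3
  have b2 := hb e2 e3
  rw [h1, h3, hs, f3, one_mul] at b1
  rw [h2, h3, hs, f4, one_mul] at b2
  refine ext_basis (h0.trans t0.symm) ?_ ?_ (h3.trans t3.symm)
  · rw [h1, t1, (tr_facts a b j).2.1 b1]
  · rw [h2, t2, (tr_facts a b k).2.2.1 b2]

/-- A similitude fixing the opposite point and acting trivially on its orthogonal space modulo it. -/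
theorem exists_eq_tr3M {M : Matrix (Fin 4) (Fin 4) (ZMod 3)} (hM : IsSim M) (h3 : M.mulVec e3 = e3)
    {j k : ZMod 3} (h1 : M.mulVec e1 = j • e3 + e1) (h2 : M.mulVec e2 = k • e3 + e2) :
    ∃ a b, M = tr3M a b := by
  obtain ⟨s, hs', hq, hb⟩ := isSim_mult hM
  have hs : s = 1 := by
    have h := hq e1
    rw [h1, (tr3_facts 0 0 j).1.1, (tr3_facts 0 0 j).1.2] at h
    rcases hs' with rfl | rfl
    · rfl
    · exact absurd h (by decide)
  have hw : M.mulVec e0 = ![1, (M.mulVec e0) 1, (M.mulVec e0) 2,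
      (M.mulVec e0) 1 * (M.mulVec e0) 1 + (M.mulVec e0) 2 * (M.mulVec e0) 2] := by
    refine sing_facts _ (by rw [hq, show qf e0 = 0 by decide, mul_zero]) ?_
    have h := hb e0 e3
    rw [h3, hs, one_mul, bf_e13.2.2] at h
    exact h
  set a := (M.mulVec e0) 1
  set b := (M.mulVec e0) 2
  obtain ⟨-, -, -, t3, t1, t2, t0⟩ := tr3_facts a b 0
  have b1 := hb e1 e0
  have b2 := hb e2 e0
  rw [h1, hw, hs, one_mul, bf_e13.1] at b1
  rw [h2, hw, hs, one_mul, bf_e13.2.1] at b2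
  refine ⟨a, b, ext_basis (hw.trans t0.symm) ?_ ?_ (h3.trans t3.symm)⟩
  · rw [h1, t1, (tr3_facts a b j).2.1 b1]
  · rw [h2, t2, (tr3_facts a b k).2.2.1 b2]

theorem tr_low : ∀ a b : ZMod 3, ∀ u : V4, u 3 = 0 → ∃ k : ZMod 3, (trM a b).mulVec u = u + k • e0 := by
  decide +kernel

theorem trM_inj : ∀ a b c d : ZMod 3, (trM a b).mulVec e3 = (trM c d).mulVec e3 → a = c ∧ b = d := by decide +kernel

end Cfsg.Agent.U62Three
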