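import Cfsg.Agent.Lib.Co2Three.Tools.Signal

/-!
The elementary abelian subgroup of order 81 has no non-trivial signaliser when its conjugates containing the
central element meet the core in order 27.
-/

set_option autoImplicit false
set_option linter.style.haveILetI false

namespace Cfsg.Agent.U62Three

open Subgroup
open Co2Three (Core V4 qf elHom exists_singular_of_card)

variable {G : Type*} [Group G] {Q : Subgroup G} {z : G}

/-- No signaliser inside the centraliser of the central element. -/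
theorem sig_trivial [Finite G] (C : Core Q z)
    (hQn : ∀ g ∈ centralizer ({z} : Set G), ∀ q ∈ Q, g * q * g⁻¹ ∈ Q)
    (hCQ : ∀ g : G, Commute g z → (∀ q ∈ Q, Commute g q) → g ∈ Q)
    {E K : Subgroup G} (h27 : 27 ≤ Nat.card ↥(E ⊓ Q)) (hab : ∀ a ∈ E, ∀ b ∈ E, a * b = b * a)
    (hK : K ≤ centralizer {z}) (hcop : (Nat.card K).Coprime 3)
    (hEK : ∀ e ∈ E, ∀ k ∈ K, e * k * e⁻¹ ∈ K) : K = ⊥ := by
  refine (eq_bot_iff_forall K).2 fun k hk => ?_
  have hko : (orderOf k).Coprime 3 := hcop.coprime_dvd_left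
    (by simpa using orderOf_dvd_natCard (⟨k, hk⟩ : K))
  have hkQ : ∀ q ∈ Q, k * q * k⁻¹ ∈ Q := hQn k (hK hk)
  have hinQ : ∀ x ∈ K, x ∈ Q → x = 1 := by
    intro x hxK hxQ
    refine orderOf_eq_one_iff.1 (Nat.eq_one_of_dvd_coprimes (a := Nat.card K) (b := 243) ?_ ?_ ?_)
    · exact hcop.pow_right 5
    · simpa using orderOf_dvd_natCard (⟨x, hxK⟩ : K)
    · rw [← C.card]
      simpa using orderOf_dvd_natCard (⟨x, hxQ⟩ : Q)
  have hkA : ∀ a ∈ E ⊓ Q, Commute k a := by
    intro a ha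
    have h1 : a * k * a⁻¹ * k⁻¹ ∈ K := mul_mem (hEK a ha.1 k hk) (inv_mem hk)
    have h2 : a * k * a⁻¹ * k⁻¹ ∈ Q := by
      have : a * k * a⁻¹ * k⁻¹ = a * (k * a⁻¹ * k⁻¹) := by group
      rw [this]
      exact mul_mem ha.2 (hkQ _ (inv_mem ha.2))
    have h3 := hinQ _ h1 h2
    rw [mul_inv_eq_one, mul_inv_eq_iff_eq_mul] at h3
    exact h3.symm
  refine hinQ k hk (hCQ k (mem_centralizer_singleton_iff.1 (hK hk)) ?_)
  exact Core.centralise_of_coprime C hkQ hko inf_le_right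
    (fun a ha b hb => hab a ha.1 b hb.1) h27 hkA

/-- No non-trivial signaliser of the elementary abelian subgroup of order 81. -/
theorem no_sig_of [Finite G] (el : V4 → G) (el_add : ∀ u v, el (u + v) = el u * el v)
    (el_inj : Function.Injective el) (hfused : ∀ v, v ≠ 0 → qf v = 0 → ∃ g : G, g * z * g⁻¹ = el v)
    (C : Core Q z)
    (hQn : ∀ g ∈ centralizer ({z} : Set G), ∀ q ∈ Q, g * q * g⁻¹ ∈ Q)
    (hCQ : ∀ g : G, Commute g z → (∀ q ∈ Q, Commute g q) → g ∈ Q)
    (h27 : ∀ g : G, g * z * g⁻¹ ∈ (elHom el el_add).range →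
      27 ≤ Nat.card ↥(((elHom el el_add).range).map (MulAut.conj g⁻¹).toMonoidHom ⊓ Q))
    (K : Subgroup G) (hK : (Nat.card K).Coprime 3)
    (hJK : ∀ v, ∀ k ∈ K, el v * k * (el v)⁻¹ ∈ K) : K = ⊥ := by
  set J : Subgroup G := (elHom el el_add).range with hJ
  have hinj : Function.Injective (elHom el el_add) := fun a b h => el_inj h
  have hJc : Nat.card J = 81 := by
    rw [hJ, ← Nat.card_congr (MonoidHom.ofInjective hinj).toEquiv]
    simp [Nat.card_eq_fintype_card, V4]
  have hmem : ∀ {x : G}, x ∈ J ↔ ∃ v, el v = x :=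
    ⟨fun ⟨v, hv⟩ => ⟨v.toAdd, hv⟩, fun ⟨v, hv⟩ => ⟨Multiplicative.ofAdd v, hv⟩⟩
  have hcomm : ∀ a ∈ J, ∀ b ∈ J, a * b = b * a := by
    intro a ha b hb
    obtain ⟨u, rfl⟩ := hmem.1 ha
    obtain ⟨v, rfl⟩ := hmem.1 hb
    rw [← el_add, ← el_add, add_comm]
  have hJel : Cfsg.IsElementaryAbelian 3 J := by
    refine ⟨⟨⟨fun a b => Subtype.ext (hcomm a a.2 b b.2)⟩⟩, ?_⟩
    rintro a ⟨v, rfl⟩
    rw [← map_pow]
    rw [show v ^ 3 = 1 from ?_, map_one]
    refine Multiplicative.toAdd.injective ?_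
    rw [toAdd_pow, toAdd_one]
    funext i
    simp only [Pi.smul_apply, nsmul_eq_mul, Pi.zero_apply]
    rw [show ((3 : ℕ) : ZMod 3) = 0 from rfl, zero_mul]
  haveI : Fact (Nat.Prime 3) := ⟨Nat.prime_three⟩
  have hn : J ≤ normalizer (K : Set G) := by
    intro a ha
    obtain ⟨v, rfl⟩ := hmem.1 ha
    refine mem_normalizer_iff.2 fun k => ⟨hJK v k, fun hk => ?_⟩
    have h := hJK (-v) _ hk
    have hv : el (-v) = (el v)⁻¹ := eq_inv_of_mul_eq_one_left (by
      rw [← el_add, neg_add_cancel]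
      exact (elHom el el_add).map_one)
    rw [hv] at h
    simpa [mul_assoc] using h
  have hcop : (Nat.card J).Coprime (Nat.card K) := by
    rw [hJc]
    exact (Nat.Coprime.pow_left 4 hK.symm)
  refine eq_bot_iff.2 ((CoprimeLength.le_iSup_hyperplanes J K hJel (by rw [hJc]; norm_num) hn hcop).trans
    (iSup_le fun B => ?_))
  obtain ⟨B, hBJ, hBc⟩ := B
  rw [hJc] at hBc
  let B' : AddSubgroup V4 :=
    { carrier := {v | el v ∈ B}
      add_mem' := fun {u v} hu hv => by show el (u + v) ∈ B; rw [el_add]; exact mul_mem hu hv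
      zero_mem' := by
        show el 0 ∈ B
        rw [show el 0 = 1 from (elHom el el_add).map_one]
        exact B.one_mem
      neg_mem' := fun {v} hv => by
        show el (-v) ∈ B
        rw [show el (-v) = (el v)⁻¹ from eq_inv_of_mul_eq_one_left (by
          rw [← el_add, neg_add_cancel]; exact (elHom el el_add).map_one)]
        exact inv_mem hv }
  have hB' : 27 ≤ Nat.card B' := by
    have h : Nat.card B ≤ Nat.card B' :=
      Nat.card_le_card_of_injective
        (fun b : B => (⟨(hmem.1 (hBJ b.2)).choose, by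
          show el _ ∈ B
          rw [(hmem.1 (hBJ b.2)).choose_spec]
          exact b.2⟩ : B'))
        (fun a b hab => Subtype.ext (by
          rw [← (hmem.1 (hBJ a.2)).choose_spec, ← (hmem.1 (hBJ b.2)).choose_spec]
          exact congrArg (fun w : B' => el w.1) hab))
    omega
  obtain ⟨v, hvB, hv0, hvq⟩ := exists_singular_of_card B' hB'
  obtain ⟨g, hg⟩ := hfused v hv0 hvq
  intro k hk
  rw [mem_bot]
  set φ : G →* G := (MulAut.conj g⁻¹).toMonoidHom with hφ
  have hφi : Function.Injective φ := (MulAut.conj g⁻¹).injective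
  have hφz : φ (el v) = z := by
    rw [← hg, hφ, MulEquiv.toMonoidHom_eq_coe, MonoidHom.coe_coe, MulAut.conj_apply]
    group
  set K₁ := (K ⊓ centralizer ({el v} : Set G))
  have h1 : K₁.map φ = ⊥ := by
    refine sig_trivial C hQn hCQ (E := J.map φ) (h27 g (hg ▸ hmem.2 ⟨v, rfl⟩)) ?_ ?_ ?_ ?_
    · rintro _ ⟨a, ha, rfl⟩ _ ⟨b, hb, rfl⟩
      rw [← map_mul, ← map_mul, hcomm a ha b hb]
    · rintro _ ⟨a, ha, rfl⟩
      rw [mem_centralizer_singleton_iff, ← hφz, ← map_mul, ← map_mul,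
        mem_centralizer_singleton_iff.1 ha.2]
    · rw [Nat.card_congr (equivMapOfInjective K₁ φ hφi).toEquiv.symm]
      exact hK.coprime_dvd_left (card_dvd_of_le inf_le_left)
    · rintro _ ⟨a, ha, rfl⟩ _ ⟨b, hb, rfl⟩
      rw [← map_inv, ← map_mul, ← map_mul]
      refine mem_map_of_mem _ ⟨(mem_normalizer_iff.1 (hn ha) b).1 hb.1, ?_⟩
      have h1 : Commute a (el v) := hcomm a ha (el v) (hmem.2 ⟨v, rfl⟩)
      have h2 : Commute b (el v) := mem_centralizer_singleton_iff.1 hb.2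
      exact mem_centralizer_singleton_iff.2 ((h1.mul_left h2).mul_left h1.inv_left).eq
  have hkK₁ : k ∈ K₁ :=
    ⟨hk.1, mem_centralizer_singleton_iff.2 (mem_centralizer_iff.1 hk.2 (el v) hvB).symm⟩
  have h2 : φ k ∈ K₁.map φ := mem_map_of_mem _ hkK₁
  rw [h1, mem_bot, ← map_one φ] at h2
  exact hφi h2

end Cfsg.Agent.U62Three
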