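import Cfsg.Agent.Lib.U62Three.Point.Form
import Cfsg.Agent.Lib.U62Three.Point.Rot
import Cfsg.Agent.Lib.U62Three.Point.Signal

/-!
All properties of the elementary abelian subgroup of order 81 from two commuting points. The core induces the
translations at the central point and a conjugate of them the translations at the opposite one, so the group
generated by these, transitive on the singular vectors, is induced.
-/

set_option autoImplicit false
set_option linter.style.haveILetI false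
set_option linter.unusedSectionVars false

namespace Cfsg.Agent.U62Three

open Subgroup
open scoped commutatorElement
open Co2Three (V4 qf bf e0 e1 e2 e3 IsSim isSim_mult isSim_of_singular IsPoint pw pw_zero pw_one pw_add pw_neg
  secant_of elHom)

variable {G : Type*} [Group G]

/-- The coordinates with all properties concerning the elementary abelian subgroup alone. -/
structure JData [Finite G] (Q : Subgroup G) (el : V4 → G) : Prop where
  el_add : ∀ u v, el (u + v) = el u * el v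
  el_inj : Function.Injective el
  cent_three : ∀ g : G, (∀ v, Commute g (el v)) → ∃ n : ℕ, g ^ 3 ^ n = 1
  cent_core : ∀ g ∈ Q, (∀ v, Commute g (el v)) → ∃ v, g = el v
  cent_J : ¬ 9 ∣ (Q.subgroupOf (centralizer ({el e0} : Set G))).index →
    ∀ g : G, (∀ v, Commute g (el v)) → ∃ v, g = el v
  norm_sim : ∀ g : G, (∀ v, ∃ w, g * el v * g⁻¹ = el w) →
    ∃ M : Matrix (Fin 4) (Fin 4) (ZMod 3), IsSim M ∧ ∀ v, g * el v * g⁻¹ = el (M.mulVec v)
  rot : ∀ M : Matrix (Fin 4) (Fin 4) (ZMod 3), IsRot M → ∃ g : G, ∀ v, g * el v * g⁻¹ = el (M.mulVec v)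
  fused : ∀ v, v ≠ 0 → ((∃ g : G, g * el e0 * g⁻¹ = el v) ↔ qf v = 0)
  no_sig : ∀ K : Subgroup G, (Nat.card K).Coprime 3 → (∀ v, ∀ k ∈ K, el v * k * (el v)⁻¹ ∈ K) → K = ⊥
  pt : Pt Q (el e0)
  Q_J : ∀ v, el v ∈ Q ↔ v 3 = 0
  secant : ∀ v, v 3 ≠ 0 → qf v ≠ 0 → ∀ g : G, Commute g (el e0) → Commute g (el v) →
    ∀ u, ∃ w, g * el u * g⁻¹ = el w
  tangent_core : ∀ b : V4, b 3 = 0 → (b 1 ≠ 0 ∨ b 2 ≠ 0) →
    Nat.card ↥(Q ⊓ centralizer {el b}) = 81 ∧
    ∀ x ∈ Q ⊓ centralizer {el b}, (∀ q ∈ Q ⊓ centralizer {el b}, x * q = q * x) ↔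
      ∃ i j : ZMod 3, x = el (i • e0 + j • b)

/-- The coordinates of the subgroup attached to two points. -/
structure Coord {Q : Subgroup G} {z z' : G} (b : Base Q z z') [Finite G] (el : V4 → G) : Prop where
  add : ∀ u v, el (u + v) = el u * el v
  inj : Function.Injective el
  mem_J : ∀ x, x ∈ b.J ↔ ∃ v, el v = x
  h0 : el e0 = z ∨ el e0 = z⁻¹
  QJ : ∀ v, el v ∈ Q ↔ v 3 = 0
  pts : ∀ v, v ≠ 0 → (IsPoint z (el v) ↔ qf v = 0)

theorem el_natCast_smul (el : V4 → G) (h : ∀ u v, el (u + v) = el u * el v) (n : ℕ) (v : V4) :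
    el ((n : ZMod 3) • v) = el v ^ n := by
  rw [Nat.cast_smul_eq_nsmul]
  exact (congrArg (elHom el h) (ofAdd_nsmul n v)).trans (map_pow (elHom el h) _ n)

theorem pt_facts : ∀ u : V4, ∀ j : ZMod 3, ∀ a b : ZMod 3,
    (u = ![0, a, b, 0] → u + j • e0 + e3 = ![j, a, b, 1]) ∧ (qf ![j, a, b, 1] = 0 → j = a * a + b * b) := by
  intro u j a b
  refine ⟨fun h => ?_, (by decide +kernel : ∀ j a b : ZMod 3, qf ![j, a, b, 1] = 0 → j = a * a + b * b) j a b⟩
  subst h
  exact (by decide +kernel : ∀ j a b : ZMod 3, (![0, a, b, 0] : V4) + j • e0 + e3 = ![j, a, b, 1]) j a b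

theorem perp_facts : ∀ u : V4, ∀ s : ZMod 3, s ≠ 0 → bf u (s • e0) = 0 → u 3 = 0 := by decide +kernel

theorem smul_facts : ∀ v : V4, ∀ s : ZMod 3, (s ≠ 0 → s • s • v = v) ∧ v 3 • e3 + (v - v 3 • e3) = v ∧
    (v - v 3 • e3) 3 = 0 := by decide +kernel

namespace Coord

variable [Finite G] {Q : Subgroup G} {z z' : G} {b : Base Q z z'} {el : V4 → G}

theorem zero (C : Coord b el) : el 0 = 1 := mul_eq_left.1 ((C.add 0 0).symm.trans (by rw [add_zero]))

theorem neg (C : Coord b el) (v : V4) : el (-v) = (el v)⁻¹ :=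
  eq_inv_of_mul_eq_one_left (by rw [← C.add, neg_add_cancel, C.zero])

theorem comm (C : Coord b el) (u v : V4) : Commute (el u) (el v) := by
  rw [Commute, SemiconjBy, ← C.add, ← C.add, add_comm]

theorem smul (C : Coord b el) (k : ZMod 3) (v : V4) : el (k • v) = pw (el v) k := by
  have h := el_natCast_smul el C.add k.val v
  rwa [ZMod.natCast_rightInverse] at h

/-- The central element has coordinates plus or minus the central point. -/
theorem exists_z (C : Coord b el) : ∃ s : ZMod 3, s ≠ 0 ∧ el (s • e0) = z := by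
  rcases C.h0 with e | e
  · exact ⟨1, one_ne_zero, by rw [one_smul, e]⟩
  · exact ⟨-1, by decide, by rw [neg_one_smul, C.neg, e, inv_inv]⟩

theorem exists_zpowers (C : Coord b el) {x : G} (hx : x ∈ zpowers z) : ∃ t : ZMod 3, x = el (t • e0) := by
  obtain ⟨k, rfl⟩ := b.exists_pw hx
  obtain ⟨s, -, hs⟩ := C.exists_z
  exact ⟨k * s, by rw [← smul_smul, C.smul, hs]⟩

theorem commute_z (C : Coord b el) (v : V4) : Commute (el v) z := by
  obtain ⟨s, -, hs⟩ := C.exists_z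
  exact hs ▸ C.comm v _

/-- The point conjugate to the central one. -/
theorem base (C : Coord b el) : Base Q z (el e3) := by
  refine ⟨b.pt, (C.pts e3 (by decide)).2 (by decide), C.commute_z e3, fun h => ?_⟩
  exact absurd ((C.QJ e3).1 (b.pt.core.zpowers_le_Q h)) (by decide)

/-- A normalising element induces a similitude. -/
theorem exists_sim (C : Coord b el) (g : G) (hg : ∀ v, ∃ w, g * el v * g⁻¹ = el w) :
    ∃ M : Matrix (Fin 4) (Fin 4) (ZMod 3), IsSim M ∧ Function.Injective M.mulVec ∧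
      ∀ v, g * el v * g⁻¹ = el (M.mulVec v) := by
  choose f hf using hg
  have fadd : ∀ u v, f (u + v) = f u + f v := fun u v => C.inj (by
    rw [← hf, C.add, C.add, ← hf, ← hf]
    group)
  have finj : Function.Injective f := fun u v h => C.inj (by
    have h' : g * el u * g⁻¹ = g * el v * g⁻¹ := by rw [hf, hf, h]
    exact mul_left_cancel (mul_right_cancel h'))
  have f0 : f 0 = 0 := (AddMonoidHom.mk' f fadd).map_zero
  let φ : V4 →ₗ[ZMod 3] V4 := (AddMonoidHom.mk' f fadd).toZModLinearMap 3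
  have hφ : ∀ v, (LinearMap.toMatrix' φ).mulVec v = f v := fun v => by
    rw [← Matrix.toLin'_apply, Matrix.toLin'_toMatrix']
    rfl
  refine ⟨LinearMap.toMatrix' φ, isSim_of_singular _ (fun v hv => finj ?_) (fun v hv0 hvq => ?_),
    fun u v h => finj (by rw [← hφ, ← hφ]; exact h), fun v => by rw [hφ, hf]⟩
  · rw [← hφ, hv, f0]
  · rw [hφ]
    refine (C.pts (f v) fun h0 => hv0 (finj (h0.trans f0.symm))).1 ?_
    rw [← hf]
    exact ((C.pts v hv0).2 hvq).conj g

/-- The core induces the translations at the central point. -/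
theorem exists_tr (C : Coord b el) (a c : ZMod 3) :
    ∃ y : G, ∀ v, y * el v * y⁻¹ = el ((trM a c).mulVec v) := by
  set u : V4 := ![0, a, c, 0] with hu
  have huA : el u ∈ C.base.A := ⟨(C.QJ u).2 rfl, mem_centralizer_singleton_iff.2 (C.comm u e3).eq⟩
  obtain ⟨y, hy, k, hk⟩ := C.base.exists_move huA
  have hyz : Commute y z := b.pt.commute_z hy
  obtain ⟨j, hj⟩ := C.exists_zpowers (x := pw z k) (pow_mem (mem_zpowers z) k.val)
  rw [hj, ← C.add, ← C.add, (pt_facts u j a c).1 hu] at hk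
  have hsing : qf ![j, a, c, 1] = 0 := (C.pts _ fun h => absurd (congrFun h 3) one_ne_zero).1
    (hk ▸ C.base.point.conj y)
  have hj' := (pt_facts u j a c).2 hsing
  have hlow : ∀ v : V4, v 3 = 0 → ∃ t : ZMod 3, y * el v * y⁻¹ = el (t • e0 + v) := fun v hv => by
    obtain ⟨t, ht⟩ := C.exists_zpowers (b.pt.core.comm y hy _ ((C.QJ v).2 hv))
    exact ⟨t, by rw [C.add, ← ht]; group⟩
  have hnorm : ∀ v, ∃ w, y * el v * y⁻¹ = el w := fun v => by
    obtain ⟨t, ht⟩ := hlow _ (smul_facts v 0).2.2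
    have h3 : y * el (v 3 • e3) * y⁻¹ = el (v 3 • ![j, a, c, 1]) := by
      rw [C.smul, C.smul, ← hk, pw, pw, conj_pow]
    refine ⟨v 3 • ![j, a, c, 1] + (t • e0 + (v - v 3 • e3)), ?_⟩
    rw [C.add, ← h3, ← ht]
    conv_lhs => rw [← (smul_facts v 0).2.1, C.add]
    group
  obtain ⟨M, hM, -, hMv⟩ := C.exists_sim y hnorm
  have hM0 : M.mulVec e0 = e0 := C.inj (by
    rw [← hMv]
    have h : Commute y (el e0) := by
      rcases C.h0 with e | e <;> rw [e]
      · exact hyz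
      · exact hyz.inv_right
    rw [h.eq, mul_inv_cancel_right])
  obtain ⟨i, hi⟩ := hlow e1 (by decide)
  obtain ⟨l, hl⟩ := hlow e2 (by decide)
  rw [hMv] at hi hl hk
  rw [hj'] at hk
  have hMt : M = trM a c := eq_trM hM hM0 (C.inj hi) (C.inj hl) (C.inj hk)
  exact ⟨y, fun v => hMt ▸ hMv v⟩

/-- A conjugate of them induces the translations at the opposite point. -/
theorem exists_tr3 (C : Coord b el) (a' c' : ZMod 3) :
    ∃ y : G, ∀ v, y * el v * y⁻¹ = el ((tr3M a' c').mulVec v) := by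
  classical
  obtain ⟨g, hg⟩ := C.base.point
  obtain ⟨w, hw, hgw⟩ : ∃ w, (w = z ∨ w = z⁻¹) ∧ g * w * g⁻¹ = el e3 :=
    hg.elim (fun e => ⟨z, Or.inl rfl, e⟩) fun e => ⟨z⁻¹, Or.inr rfl, e⟩
  obtain ⟨n, hn, hnw⟩ := b.exists_normalising ((C.mem_J _).2 ⟨e3, rfl⟩) hw hgw
  obtain ⟨M, hM, hMi, hMv⟩ := C.exists_sim n fun v => by
    obtain ⟨x, hx⟩ := (C.mem_J _).1 (hn _ ((C.mem_J _).2 ⟨v, rfl⟩))
    exact ⟨x, hx.symm⟩
  have hMs : Function.Surjective M.mulVec := Finite.injective_iff_surjective.1 hMi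
  obtain ⟨s, hs0, hs⟩ : ∃ s : ZMod 3, s ≠ 0 ∧ el (s • e0) = w := by
    obtain ⟨s, hs0, hs⟩ := C.exists_z
    rcases hw with rfl | rfl
    · exact ⟨s, hs0, hs⟩
    · exact ⟨-s, neg_ne_zero.2 hs0, by rw [neg_smul, C.neg, hs]⟩
  have hM3 : M.mulVec (s • e0) = e3 := C.inj (by rw [← hMv, hs, hnw])
  have hM0 : M.mulVec e0 = s • e3 := by
    rw [← hM3, Matrix.mulVec_smul, (smul_facts _ s).1 hs0]
  obtain ⟨μ, hμ, -, hMb⟩ := isSim_mult hM
  have hμ0 : μ ≠ 0 := by rcases hμ with rfl | rfl <;> decide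
  have hperp : ∀ x : V4, bf x e3 = 0 → ∀ u, M.mulVec u = x → u 3 = 0 := fun x hx u hu =>
    perp_facts u s hs0 (by
      have h := hMb u (s • e0)
      rw [hu, hM3, hx] at h
      exact (mul_eq_zero.1 h.symm).resolve_left hμ0)
  have key : ∀ p : ZMod 3 × ZMod 3, ∃ y : G, ∃ q : ZMod 3 × ZMod 3,
      (∀ v, y * el v * y⁻¹ = el ((tr3M q.1 q.2).mulVec v)) ∧
      ∀ v, y * el (M.mulVec v) * y⁻¹ = el (M.mulVec ((trM p.1 p.2).mulVec v)) := fun p => by
    obtain ⟨y, hy⟩ := C.exists_tr p.1 p.2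
    have hyM : ∀ v, (n * y * n⁻¹) * el (M.mulVec v) * (n * y * n⁻¹)⁻¹ =
        el (M.mulVec ((trM p.1 p.2).mulVec v)) := fun v => by
      rw [← hMv, ← hMv, ← hy]
      group
    obtain ⟨X, hX, -, hXv⟩ := C.exists_sim (n * y * n⁻¹) fun v => by
      obtain ⟨u, rfl⟩ := hMs v
      exact ⟨_, hyM u⟩
    have hXM : ∀ v, X.mulVec (M.mulVec v) = M.mulVec ((trM p.1 p.2).mulVec v) := fun v =>
      C.inj ((hXv _).symm.trans (hyM v))
    have hX3 : X.mulVec e3 = e3 := by
      rw [← hM3, hXM, Matrix.mulVec_smul (trM p.1 p.2), (tr_facts p.1 p.2 0).2.2.2.1]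
    have hlow : ∀ x : V4, bf x e3 = 0 → ∃ t : ZMod 3, X.mulVec x = t • e3 + x := fun x hx => by
      obtain ⟨u, hu⟩ := hMs x
      obtain ⟨k, hk⟩ := tr_low p.1 p.2 u (hperp x hx u hu)
      refine ⟨k * s, ?_⟩
      rw [← hu, hXM, hk, Matrix.mulVec_add, Matrix.mulVec_smul, hM0, smul_smul, add_comm]
    obtain ⟨i, hi⟩ := hlow e1 (by decide)
    obtain ⟨l, hl⟩ := hlow e2 (by decide)
    obtain ⟨a, c, hXe⟩ := exists_eq_tr3M hX hX3 hi hl
    exact ⟨n * y * n⁻¹, (a, c), fun v => hXe ▸ hXv v, hyM⟩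
  choose y q hy hyM using key
  have hq : Function.Injective q := fun p p' h => by
    have e : (trM p.1 p.2).mulVec e3 = (trM p'.1 p'.2).mulVec e3 := hMi (C.inj (by
      rw [← hyM p, ← hyM p', hy p, hy p', h]))
    obtain ⟨h1, h2⟩ := trM_inj _ _ _ _ e
    exact Prod.ext h1 h2
  obtain ⟨p, hp⟩ := Finite.injective_iff_surjective.1 hq (a', c')
  refine ⟨y p, fun v => ?_⟩
  have h := hy p v
  rwa [hp] at h

/-- The group generated by the translations is induced. -/
theorem exists_rot_elt (C : Coord b el) {M : Matrix (Fin 4) (Fin 4) (ZMod 3)} (hM : IsRot M) :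
    ∃ g : G, ∀ v, g * el v * g⁻¹ = el (M.mulVec v) := by
  induction hM using Submonoid.closure_induction with
  | mem A hA =>
    rcases hA with ⟨p, rfl⟩ | ⟨p, rfl⟩
    · exact C.exists_tr p.1 p.2
    · exact C.exists_tr3 p.1 p.2
  | one => exact ⟨1, fun v => by simp⟩
  | mul A B _ _ hA hB =>
    obtain ⟨g, hg⟩ := hA
    obtain ⟨h, hh⟩ := hB
    exact ⟨g * h, fun v => by rw [← Matrix.mulVec_mulVec, ← hg, ← hh]; group⟩

/-- The conjugates of the central point are the singular vectors. -/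
theorem fused (C : Coord b el) (v : V4) (hv : v ≠ 0) : (∃ g : G, g * el e0 * g⁻¹ = el v) ↔ qf v = 0 := by
  constructor
  · rintro ⟨g, hg⟩
    refine (C.pts v hv).1 ⟨g, ?_⟩
    rcases C.h0 with e | e <;> rw [e] at hg
    · exact Or.inl hg
    · exact Or.inr hg
  · intro hq
    obtain ⟨M, hM, hMv⟩ := exists_rot hv hq
    obtain ⟨g, hg⟩ := C.exists_rot_elt hM
    exact ⟨g, by rw [hg, hMv]⟩

end Coord

namespace Base

variable [Finite G] {Q : Subgroup G} {z z' : G}

/-- All properties of the subgroup of order 81. -/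
theorem exists_jData_at (b : Base Q z z') (a : b.A) (ha : (a : G) ∉ zpowers z) :
    ∃ el : V4 → G, JData Q el ∧ (el e0 = z ∨ el e0 = z⁻¹) ∧ (∀ x, x ∈ b.J ↔ ∃ v, el v = x) ∧
      el e3 = z' ∧ (a : G)⁻¹ * el e1 ∈ zpowers z := by
  obtain ⟨el, hadd, hinj, hJ, h0, hQJ, hpt, hz3, hza⟩ := b.exists_coord_at a ha
  have C : Coord b el := ⟨hadd, hinj, hJ, h0, hQJ, hpt⟩
  have hP : Pt Q (el e0) := h0.elim (fun e => e.symm ▸ b.pt) fun e => e.symm ▸ b.pt.inv
  have hgJ : ∀ g : G, (∀ v, Commute g (el v)) → ∀ x ∈ b.J, Commute g x := fun g hg x hx => by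
    obtain ⟨w, rfl⟩ := (hJ x).1 hx
    exact hg w
  refine ⟨el, ⟨hadd, hinj, fun g hg => ?_, fun g hgQ hg => ?_, fun hidx g hg => ?_, fun g hg => ?_,
    fun M hM => C.exists_rot_elt hM, C.fused, ?_, hP, hQJ, ?_, ?_⟩, h0, hJ, hz3, hza⟩
  · obtain ⟨n, hn⟩ := b.isPGroup_cent ⟨g, mem_centralizer_iff.2 fun x hx => (hgJ g hg x hx).eq.symm⟩
    exact ⟨n, congrArg Subtype.val hn⟩
  · obtain ⟨v, hv⟩ := (hJ g).1 (b.cent_inf_core (hgJ g hg) hgQ)
    exact ⟨v, hv.symm⟩
  · have hidx' : ¬ 9 ∣ (Q.subgroupOf (centralizer ({z} : Set G))).index := by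
      rcases h0 with e | e
      · rwa [e] at hidx
      · have hc : centralizer ({z⁻¹} : Set G) = centralizer {z} := by
          ext x
          rw [mem_centralizer_singleton_iff, mem_centralizer_singleton_iff]
          exact Commute.inv_right_iff (a := x) (b := z)
        rwa [e, hc] at hidx
    obtain ⟨v, hv⟩ := (hJ g).1 (b.cent_J hidx' (hgJ g hg))
    exact ⟨v, hv.symm⟩
  · obtain ⟨M, hM, -, hMv⟩ := C.exists_sim g hg
    exact ⟨M, hM, hMv⟩
  · refine no_sig_of el hadd hinj (fun v hv hq => (C.fused v hv).2 hq) hP.core hP.normal hP.cq fun g hg => ?_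
    have hR : (elHom el hadd).range = b.J := by
      ext x
      exact ⟨fun ⟨v, hv⟩ => (hJ x).2 ⟨v.toAdd, hv⟩,
        fun hx => let ⟨v, hv⟩ := (hJ x).1 hx; ⟨Multiplicative.ofAdd v, hv⟩⟩
    rw [hR] at hg ⊢
    obtain ⟨c, hcz, hc⟩ := b.exists_conj_image g (h0.imp (fun e => e ▸ hg) fun e => e ▸ hg)
    refine (le_of_eq b.card_A.symm).trans ?_
    have hcQ : b.A.map (MulAut.conj c⁻¹).toMonoidHom ≤ b.J.map (MulAut.conj g⁻¹).toMonoidHom ⊓ Q := by
      rintro _ ⟨a, ha, rfl⟩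
      refine ⟨?_, b.pt.normal' hcz.inv_left ha.1⟩
      obtain ⟨x, hx, e⟩ : a ∈ (b.J.map (MulAut.conj g⁻¹).toMonoidHom).map (MulAut.conj c).toMonoidHom := by
        rw [hc]
        exact b.A_le_J ha
      rw [← e]
      show c⁻¹ * (c * x * c⁻¹) * c⁻¹⁻¹ ∈ _
      rwa [show c⁻¹ * (c * x * c⁻¹) * c⁻¹⁻¹ = x by group]
    exact (Nat.card_congr (equivMapOfInjective b.A _ (MulAut.conj c⁻¹).injective).toEquiv).le.trans
      (card_le_of_le hcQ)
  · intro v hv _ g hg hgv u
    refine secant_of el hadd hP.normal hQJ hv (fun x hx hxv => ?_) hg hgv u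
    have hmem : el v ∈ b.J := (hJ _).2 ⟨v, rfl⟩
    obtain ⟨a, ha, k, hk⟩ := hmem
    have hk0 : k ≠ 0 := fun hk0 => hv ((hQJ v).1 (by rw [hk, hk0, pw_zero, mul_one]; exact ha.1))
    have hxA : x ∈ b.A := b.mem_A_of_coset ha.1 hk0 hx (by
      rw [← hk, commutatorElement_eq_one_iff_mul_comm.2 hxv.symm.eq]
      exact one_mem _)
    obtain ⟨w, hw⟩ := (hJ x).1 (b.A_le_J hxA)
    exact ⟨w, hw.symm⟩
  · intro c hc3 hc
    have hcQ : el c ∈ Q := (hQJ c).2 hc3
    have hne : el c ∉ zpowers (el e0) := fun hm => by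
      obtain ⟨k, hk⟩ : ∃ k : ℕ, el e0 ^ k = el c := by
        obtain ⟨k, hk⟩ := (isOfFinOrder_of_finite (el e0)).mem_powers_iff_mem_zpowers.2 hm
        exact ⟨k, hk⟩
      rw [← el_natCast_smul el hadd] at hk
      have := hinj hk
      rcases hc with h | h
      · exact h (by simp [← this, e0])
      · exact h (by simp [← this, e0])
    refine ⟨hP.core.card_inf_centralizer hcQ hne, fun x hx => ?_⟩
    rw [hP.core.centre_inf_centralizer hcQ hne hx]
    constructor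
    · rintro ⟨i, j, rfl⟩
      exact ⟨i, j, by rw [hadd, el_natCast_smul el hadd, el_natCast_smul el hadd]⟩
    · rintro ⟨i, j, rfl⟩
      refine ⟨i.val, j.val, ?_⟩
      rw [← el_natCast_smul el hadd, ← el_natCast_smul el hadd, ← hadd,
        ZMod.natCast_rightInverse, ZMod.natCast_rightInverse]

/-- All properties of the subgroup of order 81, with any axes. -/
theorem exists_jData (b : Base Q z z') :
    ∃ el : V4 → G, JData Q el ∧ (el e0 = z ∨ el e0 = z⁻¹) ∧ ∀ x, x ∈ b.J ↔ ∃ v, el v = x := by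
  obtain ⟨a, ha⟩ := b.exists_outside
  obtain ⟨el, h1, h2, h3, -, -⟩ := b.exists_jData_at a ha
  exact ⟨el, h1, h2, h3⟩

end Base

end Cfsg.Agent.U62Three
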