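import Cfsg.Agent.Lib.U62Three.Point.Defs

/-!
Two commuting points: neither lies in the core of the other, and each centralises a subgroup of order 27 of the
core of the other.
-/

set_option autoImplicit false
set_option linter.style.haveILetI false

namespace Cfsg.Agent.U62Three.Pt

open Subgroup
open Co2Three (Core pw pw_zero pw_one pw_add pw_neg pw_mem pw_commute pw_not_mem IsPoint)
open scoped commutatorElement

variable {G : Type*} [Group G] {Q Q' : Subgroup G} {z z' : G}

theorem zpow_cases (h : Pt Q z) {x : G} (hx : x ∈ zpowers z) : x = 1 ∨ x = z ∨ x = z⁻¹ := by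
  obtain ⟨k, rfl⟩ := mem_zpowers_iff.1 hx
  rw [← zpow_mod_orderOf z k, h.core.ord]
  rcases (show k % ((3 : ℕ) : ℤ) = 0 ∨ k % ((3 : ℕ) : ℤ) = 1 ∨ k % ((3 : ℕ) : ℤ) = 2 by omega) with e | e | e <;>
    rw [e]
  · exact Or.inl (zpow_zero z)
  · exact Or.inr (Or.inl (zpow_one z))
  · refine Or.inr (Or.inr (eq_inv_of_mul_eq_one_left ?_))
    rw [show (2 : ℤ) = ((2 : ℕ) : ℤ) from rfl, zpow_natCast, ← pow_succ]
    exact h.z3

theorem mem_zpowers_symm (h : Pt Q z) (h' : Pt Q' z') (hz : z ∈ zpowers z') : z' ∈ zpowers z := by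
  rcases h'.zpow_cases hz with e | e | e
  · exact absurd e h.z_ne
  · exact e ▸ mem_zpowers z
  · rw [e, zpowers_inv]
    exact mem_zpowers z'

theorem inter_zpowers (h : Pt Q z) (h' : Pt Q' z') (hne : z' ∉ zpowers z) {x : G} (hx : x ∈ zpowers z)
    (hx' : x ∈ zpowers z') : x = 1 := by
  rcases h.zpow_cases hx with e | e | e
  · exact e
  · exact absurd (h.mem_zpowers_symm h' (e ▸ hx')) hne
  · refine absurd (h.mem_zpowers_symm h' ?_) hne
    rw [e] at hx'
    exact inv_inv z ▸ inv_mem hx'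

/-- Commuting pairs inside the intersection of a point's powers with another core are trivial. -/
theorem zpowers_inf_eq_one (h : Pt Q z) (hz : z ∉ Q') {x : G} (hx : x ∈ zpowers z) (hx' : x ∈ Q') : x = 1 := by
  rcases h.zpow_cases hx with e | e | e
  · exact e
  · exact absurd (e ▸ hx') hz
  · exact absurd (by simpa [e] using inv_mem hx') hz

/-- A finite 3-subgroup property of the subgroup of a core. -/
theorem card_core_sub (h : Pt Q z) {D : Subgroup G} (hD : D ≤ Q) : ∃ n, Nat.card D = 3 ^ n :=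
  (Nat.dvd_prime_pow Nat.prime_three).1 ((h.core.card ▸ card_dvd_of_le hD : Nat.card D ∣ 243).trans
    (by norm_num : 243 ∣ 3 ^ 5)) |>.imp fun _ hn => hn.2

variable [Finite G]

set_option linter.unusedSectionVars false

/-- No other point lies in the core. -/
theorem mem_zpowers_of_mem_core (h : Pt Q z) (hp : IsPoint z z') (hQ : z' ∈ Q) : z' ∈ zpowers z := by
  obtain ⟨g, e | e⟩ := hp
  · exact e ▸ h.wc g (e.symm ▸ hQ)
  · have e' : g * z⁻¹ * g⁻¹ = (g * z * g⁻¹)⁻¹ := by group
    rw [e'] at e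
    subst e
    exact inv_mem (h.wc g (inv_inv (g * z * g⁻¹) ▸ inv_mem hQ))

omit [Finite G] in
theorem point_symm (hp : IsPoint z z') : IsPoint z' z := by
  obtain ⟨g, e | e⟩ := hp
  · exact ⟨g⁻¹, Or.inl (by rw [← e]; group)⟩
  · exact ⟨g⁻¹, Or.inr (by rw [← e]; group)⟩

theorem not_mem_core (h : Pt Q z) (hp : IsPoint z z') (hne : z' ∉ zpowers z) : z' ∉ Q :=
  fun hQ => hne (h.mem_zpowers_of_mem_core hp hQ)

theorem not_mem_core' (h : Pt Q z) (h' : Pt Q' z') (hp : IsPoint z z') (hne : z' ∉ zpowers z) : z ∉ Q' :=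
  h'.not_mem_core (point_symm hp) fun hz => hne (h.mem_zpowers_symm h' hz)

theorem point_trans (hp : IsPoint z z') {x : G} (hx : IsPoint z x) : IsPoint z' x := by
  obtain ⟨g, hg⟩ := point_symm hp
  obtain ⟨a, ha⟩ := hx
  refine ⟨a * g, ?_⟩
  rcases ha with e | e <;> rcases hg with f | f
  · exact Or.inl (by rw [← e, ← f]; group)
  · exact Or.inr (by rw [← e, ← f]; group)
  · exact Or.inr (by rw [← e, ← f]; group)
  · exact Or.inl (by rw [← e, ← f]; group)

/-- An element of the common centraliser lies in the other core up to the central element. -/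
theorem exists_shift_mem (h : Pt Q z) (h' : Pt Q' z') (hp : IsPoint z z') (hcom : Commute z' z)
    (hne : z' ∉ zpowers z) {a : G} (ha : a ∈ Q ⊓ centralizer {z'}) : ∃ j : ZMod 3, a * pw z j ∈ Q' := by
  have hz' := h.not_mem_core hp hne
  have haz : Commute a z := h.commute_z ha.1
  have haz' : Commute a z' := mem_centralizer_singleton_iff.1 ha.2
  obtain ⟨r, hr, c, hc, hac⟩ := h.W_img z' hp hcom hz' a⁻¹ (inv_mem ha.1) (by
    rw [commutatorElement_eq_one_iff_mul_comm.2 haz'.inv_left.symm.eq]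
    exact one_mem _)
  obtain ⟨k, hk⟩ : ∃ k : ℕ, z ^ k = c := by
    rcases h.zpow_cases hc with e | e | e
    · exact ⟨0, by rw [e, pow_zero]⟩
    · exact ⟨1, by rw [e, pow_one]⟩
    · exact ⟨2, e ▸ eq_inv_of_mul_eq_one_left (by rw [← pow_succ]; exact h.z3)⟩
  have hk' : pw z (k : ZMod 3) = z ^ k := by
    rw [pw, ZMod.val_natCast]
    exact (pow_eq_pow_mod k h.z3).symm
  set v := r * z' * r⁻¹ with hv
  have hve : v = a * c * z' := by
    have e : v = ⁅z', r⁆⁻¹ * z' := by rw [hv]; simp only [commutatorElement_def]; group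
    rw [e, show ⁅z', r⁆ = a⁻¹ * c⁻¹ by rw [hac, mul_inv_cancel_right], mul_inv_rev, inv_inv, inv_inv,
      ← (fix_Z haz hc).eq]
  have hcz' : Commute c z' := (fix_Z hcom hc).symm
  by_cases hvQ : v ∈ Q'
  · refine ⟨(k : ZMod 3), ?_⟩
    rw [hk', hk]
    exact (Subgroup.mul_mem_cancel_right Q' h'.core.mem).1 (hve ▸ hvQ)
  · have hvz : Commute v z := ((h.commute_z hr).mul_left hcom).mul_left (h.commute_z hr).inv_left
    have hvz' : Commute v z' := hve ▸ (haz'.mul_left hcz').mul_left (Commute.refl z')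
    obtain ⟨j, hj⟩ := h'.line z v (point_symm hp) (point_trans hp (hp.conj r)) hcom.symm hvz' hvz.symm
      (h.not_mem_core' h' hp hne) hvQ
    refine ⟨(k : ZMod 3) + j, ?_⟩
    rw [pw_add h.z3, hk', hk]
    have e : v * pw z j = a * (c * pw z j) * z' := by
      rw [hve, mul_assoc (a * c) z', (show Commute z' (pw z j) from hcom.pow_right j.val).eq]
      group
    exact (Subgroup.mul_mem_cancel_right Q' h'.core.mem).1 (e ▸ hj)

/-- The common centraliser inside the core is abelian. -/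
theorem inf_centralizer_abelian (h : Pt Q z) (h' : Pt Q' z') (hp : IsPoint z z') (hcom : Commute z' z)
    (hne : z' ∉ zpowers z) :
    ∀ a ∈ Q ⊓ centralizer {z'}, ∀ b ∈ Q ⊓ centralizer {z'}, a * b = b * a := by
  intro a ha b hb
  obtain ⟨j, hj⟩ := h.exists_shift_mem h' hp hcom hne ha
  have haz : Commute a z' := mem_centralizer_singleton_iff.1 ha.2
  have h1 : ⁅b, a * pw z j⁆ ∈ Q' := by
    rw [commutatorElement_def]
    exact mul_mem (h'.normal b hb.2 _ hj) (inv_mem hj)
  have hbz : Commute b (pw z j) := (h.commute_z hb.1).pow_right _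
  have h2 : ⁅b, a * pw z j⁆ ∈ zpowers z :=
    h.core.comm b hb.1 _ (mul_mem ha.1 (pw_mem h.core.mem j))
  have h3 : Commute b (a * pw z j) :=
    commutatorElement_eq_one_iff_mul_comm.1 (zpowers_inf_eq_one h (h.not_mem_core' h' hp hne) h2 h1)
  have h4 := h3.mul_right hbz.inv_right
  rw [mul_inv_cancel_right] at h4
  exact h4.symm.eq

/-- The commutator with the other point, on the elements commuting with it up to the centre. -/
def WHom (h : Pt Q z) {y : G} (hy : Commute y z) : ↥(h.W y hy) →* zpowers z where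
  toFun q := ⟨⁅y, (q : G)⁆, q.2.2⟩
  map_one' := Subtype.ext (by simp)
  map_mul' a b := Subtype.ext (by
    show ⁅y, (a : G) * b⁆ = ⁅y, (a : G)⁆ * ⁅y, (b : G)⁆
    have e : ⁅y, (a : G) * b⁆ = ⁅y, (a : G)⁆ * (a * ⁅y, (b : G)⁆ * (a : G)⁻¹) := by
      simp only [commutatorElement_def]; group
    rw [e, (fix_Z (h.commute_z a.2.1) b.2.2).eq, mul_inv_cancel_right])

omit [Finite G] in
theorem map_ker_WHom (h : Pt Q z) {y : G} (hy : Commute y z) :
    (h.WHom hy).ker.map (h.W y hy).subtype = Q ⊓ centralizer {y} := by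
  ext x
  constructor
  · rintro ⟨q, hq, rfl⟩
    exact ⟨q.2.1, mem_centralizer_singleton_iff.2
      (commutatorElement_eq_one_iff_mul_comm.1 (congrArg Subtype.val hq :)).symm⟩
  · intro hx
    exact ⟨⟨x, h.inf_centralizer_le_W hy hx⟩, Subtype.ext (commutatorElement_eq_one_iff_mul_comm.2
      (mem_centralizer_singleton_iff.1 hx.2).symm), rfl⟩

omit [Finite G] in
theorem exists_WHom (h : Pt Q z) {y : G} (hp : IsPoint z y) (hy : Commute y z) (hyQ : y ∉ Q)
    (hc : Nat.card ↥(Q ⊓ centralizer {y}) ≠ 27) : Function.Surjective (h.WHom hy) := by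
  rw [← MonoidHom.range_eq_top]
  haveI : Fact (Nat.card (zpowers z)).Prime := ⟨h.core.card_zpowers.symm ▸ Nat.prime_three⟩
  refine ((h.WHom hy).range.eq_bot_or_eq_top_of_prime_card).resolve_left fun hb => hc ?_
  have hk : (h.WHom hy).ker = ⊤ := eq_top_iff.2 fun q _ => MonoidHom.mem_ker.2 (by
    rw [← mem_bot (G := zpowers z), ← hb]
    exact ⟨q, rfl⟩)
  rw [← h.map_ker_WHom hy, hk, card_subtype, card_top, h.card_W hp hy hyQ]

omit [Finite G] in
theorem nine_le_inf (h : Pt Q z) {y : G} (hp : IsPoint z y) (hy : Commute y z) (hyQ : y ∉ Q) :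
    9 ≤ Nat.card ↥(Q ⊓ centralizer {y}) := by
  rw [← h.map_ker_WHom hy, card_subtype]
  have hm := (h.WHom hy).ker.card_mul_index
  rw [index_ker, h.card_W hp hy hyQ] at hm
  have hd := card_subgroup_dvd_card (h.WHom hy).range
  rw [h.core.card_zpowers] at hd
  have := Nat.le_of_dvd (by norm_num) hd
  nlinarith

/-- Two commuting points centralise each other's core in order 27. -/
theorem card_pair (h : Pt Q z) (h' : Pt Q' z') (hp : IsPoint z z') (hcom : Commute z' z) (hne : z' ∉ zpowers z) :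
    Nat.card ↥(Q' ⊓ centralizer {z}) = 27 := by
  by_contra hc
  have hne' : z ∉ zpowers z' := fun hz => hne (h.mem_zpowers_symm h' hz)
  have hz' := h.not_mem_core hp hne
  have hz := h.not_mem_core' h' hp hne
  -- an element in both cores
  obtain ⟨q, hq, hq1⟩ : ∃ q ∈ Q ⊓ centralizer {z'} ⊓ Q', q ≠ 1 := by
    by_contra hno
    push Not at hno
    have hb : Q ⊓ centralizer {z'} ⊓ Q' = ⊥ := (eq_bot_iff_forall _).2 hno
    have h9 := h.nine_le_inf hp hcom hz'
    have hle : Q ⊓ centralizer {z'} ≤ zpowers z := fun a ha => by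
      obtain ⟨j, hj⟩ := h.exists_shift_mem h' hp hcom hne ha
      have hm : a * pw z j = 1 := (mem_bot).1 (hb ▸ ⟨⟨mul_mem ha.1 (pw_mem h.core.mem j),
        mul_mem ha.2 (mem_centralizer_singleton_iff.2 (hcom.symm.pow_left j.val).eq)⟩, hj⟩)
      rw [eq_inv_of_mul_eq_one_left hm]
      exact inv_mem (pw_mem (mem_zpowers z) j)
    have := card_le_of_le hle
    rw [h.core.card_zpowers] at this
    omega
  obtain ⟨⟨hqQ, hqz'⟩, hqQ'⟩ := hq
  have hqnz : q ∉ zpowers z := fun hqz => hq1 (zpowers_inf_eq_one h hz hqz hqQ')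
  obtain ⟨r, hr, c, hcz, hqe⟩ := h'.W_img z (point_symm hp) hcom.symm hz q hqQ' (by
    rw [commutatorElement_eq_one_iff_mul_comm.2 (h.commute_z hqQ).symm.eq]
    exact one_mem _)
  obtain ⟨w, hw⟩ := h'.exists_WHom (point_symm hp) hcom.symm hz hc ⟨c, hcz⟩
  have hwQ : (w : G) ∈ Q' := w.2.1
  have hw' : ⁅z, (w : G)⁆ = c := congrArg Subtype.val hw
  set x := r * (w : G) with hx
  have hcr : Commute r c := fix_Z (h'.commute_z hr) hcz
  have hxz : x * z * x⁻¹ = q⁻¹ * z := by
    have e1 : (w : G) * z * (w : G)⁻¹ = c⁻¹ * z := by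
      rw [← hw']; simp only [commutatorElement_def]; group
    have e2 : r * z * r⁻¹ = c * q⁻¹ * z := by
      rw [hqe]; simp only [commutatorElement_def]; group
    calc x * z * x⁻¹ = r * ((w : G) * z * (w : G)⁻¹) * r⁻¹ := by rw [hx]; group
      _ = (r * c⁻¹ * r⁻¹) * (r * z * r⁻¹) := by rw [e1]; group
      _ = q⁻¹ * z := by rw [hcr.inv_right.eq, mul_inv_cancel_right, e2]; group
  have hxQ : x * z * x⁻¹ ∈ Q := hxz ▸ mul_mem (inv_mem hqQ) h.core.mem
  have := h.wc x hxQ
  rw [hxz] at this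
  exact hqnz (by simpa using inv_mem (mul_mem this (inv_mem (mem_zpowers z))))

theorem card_pair' (h : Pt Q z) (h' : Pt Q' z') (hp : IsPoint z z') (hcom : Commute z' z) (hne : z' ∉ zpowers z) :
    Nat.card ↥(Q ⊓ centralizer {z'}) = 27 :=
  h'.card_pair h (point_symm hp) hcom.symm fun hz => hne (h.mem_zpowers_symm h' hz)

theorem W_eq (h : Pt Q z) (h' : Pt Q' z') (hp : IsPoint z z') (hcom : Commute z' z) (hne : z' ∉ zpowers z) :
    h.W z' hcom = Q ⊓ centralizer {z'} := by
  refine (eq_of_le_of_card_ge (h.inf_centralizer_le_W hcom) ?_).symm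
  rw [h.card_pair' h' hp hcom hne, h.card_W hp hcom (h.not_mem_core hp hne)]

end Cfsg.Agent.U62Three.Pt
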