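import Cfsg.Agent.Lib.U62Three.Point.Defs
import Mathlib.GroupTheory.Sylow

/-!
When nine does not divide the index of the core in the centraliser, the orientation properties of a point hold:
commuting elements of order three outside the core agree modulo it up to powers, and any two are conjugate up to
inversion modulo it.
-/

set_option autoImplicit false
set_option linter.style.haveILetI false

namespace Cfsg.Agent.U62Three

open Subgroup
open scoped commutatorElement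
open Co2Three (Core IsPoint pw pw_zero pw_one pw_neg)

variable {G : Type*} [Group G] [Finite G] {Q : Subgroup G} {z : G}

/-- An element of order three outside the core generates a Sylow subgroup of the quotient. -/
theorem exists_sylow_image (hQn : (Q.subgroupOf (centralizer ({z} : Set G))).Normal)
    (hidx : ¬ 9 ∣ (Q.subgroupOf (centralizer ({z} : Set G))).index) {x : G} (hx : x ∈ centralizer ({z} : Set G))
    (hxQ : x ∉ Q) (hx3 : x ^ 3 = 1) :
    ∃ P : Sylow 3 (centralizer ({z} : Set G) ⧸ Q.subgroupOf (centralizer ({z} : Set G))),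
      (P : Subgroup _) = zpowers (QuotientGroup.mk' (Q.subgroupOf (centralizer ({z} : Set G))) ⟨x, hx⟩) := by
  haveI := hQn
  haveI : Fact (Nat.Prime 3) := ⟨Nat.prime_three⟩
  set π := QuotientGroup.mk' (Q.subgroupOf (centralizer ({z} : Set G)))
  have hord : Nat.card (zpowers (π ⟨x, hx⟩)) = 3 := by
    rw [Nat.card_zpowers]
    refine orderOf_eq_prime ?_ fun h1 => hxQ ((QuotientGroup.eq_one_iff _).1 h1 :)
    rw [← map_pow, show (⟨x, hx⟩ : centralizer ({z} : Set G)) ^ 3 = 1 from Subtype.ext hx3, map_one]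
  obtain ⟨P, hP⟩ := (IsPGroup.of_card (n := 1) (by rw [hord, pow_one]) :
    IsPGroup 3 (zpowers (π ⟨x, hx⟩))).exists_le_sylow
  refine ⟨P, (eq_of_le_of_card_ge hP ?_).symm⟩
  obtain ⟨n, hn⟩ := IsPGroup.iff_card.1 P.2
  have hd := card_subgroup_dvd_card P.toSubgroup
  rw [hn, ← index_eq_card] at hd
  rw [hord, hn]
  rcases (show n ≤ 1 ∨ 2 ≤ n by omega) with h | h
  · exact (Nat.pow_le_pow_right (by norm_num) h).trans (le_of_eq (pow_one 3))
  · exact absurd ((pow_dvd_pow 3 h).trans hd) hidx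

omit [Finite G] in
theorem coset_of_mem_zpowers (hQn : (Q.subgroupOf (centralizer ({z} : Set G))).Normal)
    {x y : centralizer ({z} : Set G)} (hy : (y : G) ^ 3 = 1)
    (h : QuotientGroup.mk' (Q.subgroupOf (centralizer ({z} : Set G))) x ∈
      zpowers (QuotientGroup.mk' (Q.subgroupOf (centralizer ({z} : Set G))) y)) :
    ∃ k : ZMod 3, (x : G) * pw (y : G) k ∈ Q := by
  haveI := hQn
  obtain ⟨m, hm⟩ := mem_zpowers_iff.1 h
  rw [← map_zpow, QuotientGroup.mk'_eq_mk'] at hm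
  obtain ⟨w, hw, e⟩ := hm
  refine ⟨-(m : ZMod 3), ?_⟩
  have hp : pw (y : G) (m : ZMod 3) = (y : G) ^ m := by
    have hv : (((m : ZMod 3).val : ℕ) : ℤ) = m % 3 := by exact_mod_cast ZMod.val_intCast m
    rw [pw, ← zpow_natCast, hv]
    exact (zpow_eq_zpow_emod' m hy).symm
  rw [pw_neg hy, hp, ← e]
  have := hQn.conj_mem w hw (y ^ m)
  rw [mem_subgroupOf] at this
  simpa using this

/-- Commuting elements of order three outside the core agree modulo it up to powers. -/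
theorem line_of_index (hQn : ∀ g ∈ centralizer ({z} : Set G), ∀ q ∈ Q, g * q * g⁻¹ ∈ Q)
    (hidx : ¬ 9 ∣ (Q.subgroupOf (centralizer ({z} : Set G))).index) {u v : G} (huz : Commute u z)
    (hvz : Commute v z) (huv : Commute u v) (huQ : u ∉ Q) (hu3 : u ^ 3 = 1) (hv3 : v ^ 3 = 1) :
    ∃ k : ZMod 3, v * pw u k ∈ Q := by
  haveI : Fact (Nat.Prime 3) := ⟨Nat.prime_three⟩
  have hN : (Q.subgroupOf (centralizer ({z} : Set G))).Normal := ⟨fun q hq g => hQn g g.2 q hq⟩
  haveI := hN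
  have huC : u ∈ centralizer ({z} : Set G) := mem_centralizer_singleton_iff.2 huz.eq
  have hvC : v ∈ centralizer ({z} : Set G) := mem_centralizer_singleton_iff.2 hvz.eq
  obtain ⟨P, hP⟩ := exists_sylow_image hN hidx huC huQ hu3
  set π := QuotientGroup.mk' (Q.subgroupOf (centralizer ({z} : Set G)))
  refine coset_of_mem_zpowers hN (x := ⟨v, hvC⟩) (y := ⟨u, huC⟩) hu3 ?_
  rw [← hP]
  have hd : π ⟨v, hvC⟩ ∈ normalizer (P.toSubgroup : Set _) := by
    rw [hP]
    refine centralizer_le_normalizer _ (mem_centralizer_iff.2 fun w (hw : w ∈ zpowers (π ⟨u, huC⟩)) => ?_)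
    obtain ⟨i, rfl⟩ := mem_zpowers_iff.1 hw
    have hc : Commute (π ⟨u, huC⟩) (π ⟨v, hvC⟩) :=
      (show Commute (⟨u, huC⟩ : centralizer ({z} : Set G)) ⟨v, hvC⟩ from Subtype.ext huv.eq).map π
    exact (hc.zpow_left i).eq
  have hv : IsPGroup 3 (zpowers (π ⟨v, hvC⟩)) := by
    have h3 : π ⟨v, hvC⟩ ^ 3 ^ 1 = 1 := by
      rw [pow_one, ← map_pow, show (⟨v, hvC⟩ : centralizer ({z} : Set G)) ^ 3 = 1 from Subtype.ext hv3, map_one]
    rintro ⟨w, hw⟩
    obtain ⟨i, rfl⟩ := mem_zpowers_iff.1 hw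
    exact ⟨1, Subtype.ext (by
      show (π ⟨v, hvC⟩ ^ i) ^ 3 ^ 1 = 1
      rw [← zpow_natCast, ← zpow_mul, mul_comm, zpow_mul, zpow_natCast, h3, one_zpow])⟩
  have hsup : IsPGroup 3 ↥(P.toSubgroup ⊔ zpowers (π ⟨v, hvC⟩)) :=
    P.2.to_sup_of_normal_left' hv ((zpowers_le.2 hd).trans le_rfl)
  have e := P.3 hsup le_sup_left
  exact e ▸ mem_sup_right (mem_zpowers _)

/-- Elements of order three outside the core are conjugate up to inversion modulo it. -/
theorem fuse_of_index (hQn : ∀ g ∈ centralizer ({z} : Set G), ∀ q ∈ Q, g * q * g⁻¹ ∈ Q)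
    (hidx : ¬ 9 ∣ (Q.subgroupOf (centralizer ({z} : Set G))).index) {u v : G} (huz : Commute u z)
    (hvz : Commute v z) (huQ : u ∉ Q) (hvQ : v ∉ Q) (hu3 : u ^ 3 = 1) (hv3 : v ^ 3 = 1) :
    ∃ c : G, Commute c z ∧ ∃ q ∈ Q, ∃ k : ZMod 3, k ≠ 0 ∧ c * u * c⁻¹ = q * pw v k := by
  haveI : Fact (Nat.Prime 3) := ⟨Nat.prime_three⟩
  have hN : (Q.subgroupOf (centralizer ({z} : Set G))).Normal := ⟨fun q hq g => hQn g g.2 q hq⟩
  haveI := hN
  have huC : u ∈ centralizer ({z} : Set G) := mem_centralizer_singleton_iff.2 huz.eq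
  have hvC : v ∈ centralizer ({z} : Set G) := mem_centralizer_singleton_iff.2 hvz.eq
  obtain ⟨P₁, hP₁⟩ := exists_sylow_image hN hidx huC huQ hu3
  obtain ⟨P₂, hP₂⟩ := exists_sylow_image hN hidx hvC hvQ hv3
  set π := QuotientGroup.mk' (Q.subgroupOf (centralizer ({z} : Set G)))
  obtain ⟨g, hg⟩ := MulAction.exists_smul_eq (centralizer ({z} : Set G) ⧸ Q.subgroupOf (centralizer ({z} : Set G)))
    P₁ P₂
  obtain ⟨c, rfl⟩ := QuotientGroup.mk'_surjective (Q.subgroupOf (centralizer ({z} : Set G))) g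
  have hmem : π (c * ⟨u, huC⟩ * c⁻¹) ∈ zpowers (π ⟨v, hvC⟩) := by
    rw [← hP₂, ← hg, map_mul, map_mul, map_inv]
    exact ⟨π ⟨u, huC⟩, hP₁ ▸ mem_zpowers _, rfl⟩
  obtain ⟨k, hk⟩ := coset_of_mem_zpowers hN (x := c * ⟨u, huC⟩ * c⁻¹) (y := ⟨v, hvC⟩) hv3 hmem
  refine ⟨c, mem_centralizer_singleton_iff.1 c.2, (c : G) * u * (c : G)⁻¹ * pw v k, hk, -k, ?_, ?_⟩
  · intro h0
    rw [neg_eq_zero] at h0
    subst h0
    rw [pw_zero, mul_one] at hk
    have := hQn _ (inv_mem c.2) _ hk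
    refine huQ ?_
    simpa [mul_assoc] using this
  · rw [pw_neg hv3, mul_inv_cancel_right]

/-- The properties of a point when nine does not divide the index of the core. -/
theorem Pt.of_index (core : Core Q z) (le : Q ≤ centralizer {z})
    (normal : ∀ g ∈ centralizer ({z} : Set G), ∀ q ∈ Q, g * q * g⁻¹ ∈ Q) (exp : ∀ q ∈ Q, q ^ 3 = 1)
    (cq : ∀ g : G, Commute g z → (∀ q ∈ Q, Commute g q) → g ∈ Q)
    (hidx : ¬ 9 ∣ (Q.subgroupOf (centralizer ({z} : Set G))).index)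
    (wc : ∀ g : G, g * z * g⁻¹ ∈ Q → g * z * g⁻¹ ∈ zpowers z)
    (W_card : ∀ y : G, IsPoint z y → Commute y z → y ∉ Q →
      Nat.card {q : G // q ∈ Q ∧ ⁅y, q⁆ ∈ zpowers z} = 27)
    (W_img : ∀ y : G, IsPoint z y → Commute y z → y ∉ Q → ∀ w ∈ Q, ⁅y, w⁆ ∈ zpowers z →
      ∃ r ∈ Q, ∃ c ∈ zpowers z, w = ⁅y, r⁆ * c) : Pt Q z := by
  have h3 : ∀ u : G, IsPoint z u → u ^ 3 = 1 := by
    rintro u ⟨g, e | e⟩ <;> rw [← e, conj_pow]
    · rw [exp z core.mem]; group
    · rw [inv_pow, exp z core.mem]; group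
  exact ⟨core, le, normal, exp, cq, wc, W_card, W_img,
    fun u v hu hv huz hvz huv huQ _ => line_of_index normal hidx huz hvz huv huQ (h3 u hu) (h3 v hv),
    fun u v hu hv huz hvz huQ hvQ => fuse_of_index normal hidx huz hvz huQ hvQ (h3 u hu) (h3 v hv)⟩

end Cfsg.Agent.U62Three
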